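import Cfsg.Agent.C2.Basic
import Cfsg.Agent.H82.GUtil

/-! notes/C2.md, section Alp. -/

set_option autoImplicit false
set_option linter.unusedSectionVars false

namespace Cfsg.Agent.C2

open Cfsg Cfsg.Agent.H49 Cfsg.Agent.GOLD Subgroup
open Cfsg.Agent.H82G (pi2 sc_mem syl_pg exists_syl_ge)

universe u

variable {G : Type u} [Group G] [Finite G] {A D X Y V W : Subgroup G}

theorem alp_down {p : Subgroup G → Prop}
    (h : ∀ P : Subgroup G, (∀ Q : Subgroup G, Nat.card P < Nat.card Q → p Q) → p P)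
    (P : Subgroup G) : p P := by
  induction hn : Nat.card G - Nat.card P using Nat.strong_induction_on generalizing P with
  | _ n ih =>
    refine h P fun Q hQ => ih _ ?_ Q rfl
    have := Q.card_le_card_group
    omega

theorem alp_sub (s : G → Prop) (h1 : s 1) (hm : ∀ a b, s a → s b → s (a * b)) :
    ∃ B : Subgroup G, ∀ x, x ∈ B ↔ s x := by
  let M : Submonoid G := ⟨⟨{x | s x}, fun {a b} => hm a b⟩, h1⟩
  refine ⟨⟨M, fun {a} ha => ?_⟩, fun _ => Iff.rfl⟩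
  obtain ⟨n, hn⟩ := (mem_powers_iff_mem_zpowers (x := a) (y := a⁻¹)).2 (inv_mem (mem_zpowers a))
  exact hn ▸ M.pow_mem ha n

theorem alp_cj {H S P : Subgroup G} (h : SC H A) (hA : A ≤ S) (hS : S ≤ H) (h2 : IsPGroup 2 S)
    (hP : P ≤ A) {g : G} (hg : g ∈ H) (h1 : cj g P ≤ S) : cj g P ≤ A := fun y hy => by
  obtain ⟨x, hx, rfl⟩ := mem_cj'.1 hy
  exact sc_mem h hA hS h2 (hP hx) hg (h1 hy)

/-- Alperin's fusion theorem for a strongly closed subgroup. -/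
theorem alp {r : Subgroup G → G → Prop} (h : SC ⊤ A) (hr : Rel A r)
    (he : ∀ D, Ess A D → (∀ m ∈ Mx A D, r D m) → ∀ g ∈ 𝒩(D), r D g) :
    ∀ P g, P ≤ A → cj g P ≤ A → r P g := by
  refine alp_down fun P ih g hP hg => ?_
  rcases hP.eq_or_lt with rfl | hlt
  · exact hr.nor g (mem_norm_of_cj_le hg)
  obtain ⟨S, hS, hAS⟩ := exists_syl_ge h.2.1 (le_top (a := A))
  have toA : ∀ {Q : Subgroup G} {x : G}, Q ≤ A → cj x Q ≤ S → cj x Q ≤ A := fun h1 h2 =>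
    alp_cj h hAS le_top (syl_pg hS) h1 (mem_top _) h2
  obtain ⟨T, hT, hPT⟩ := exists_syl_ge (h.2.1.to_le hP) (le_normalizer (H := P))
  obtain ⟨k, -, hk⟩ := sylowOf_subJ hS le_top hT.pi
  have hT0 := hT.cj k
  rw [cj_normalizer] at hT0
  have hD : cj k P ≤ A := toA hP ((cj_mono k hPT).trans hk)
  have lt : ∀ x, cj x P ≤ A → cj x P < A := fun x hx => lt_of_le_of_ne hx fun e =>
    (card_lt_of_lt hlt).ne (by rw [← card_cj x P, e])
  have key : ∀ x, cj x P ≤ A →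
      ∃ y, cj y (cj x P) = cj k P ∧ r (cj x P) y ∧ r (cj k P) y⁻¹ := fun x hx => by
    have h1 := lt_inf_norm_of_nilpotent (pi2 h.2.1).nilpotent (lt x hx)
    have h2 : cj (k * x⁻¹) (cj x P) = cj k P := by rw [cj_cj, inv_mul_cancel_right]
    obtain ⟨n, hn, h3⟩ := sylowOf_subJ (X := cj (k * x⁻¹) (A ⊓ 𝒩(cj x P))) hT0
      (by rw [← h2, ← cj_normalizer (k * x⁻¹)]; exact cj_mono _ inf_le_right)
      (pi2 (isPGroup_cj.2 (h.2.1.to_le (H := A ⊓ 𝒩(cj x P)) inf_le_left)))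
    rw [cj_cj] at h3
    have h4 := toA inf_le_left (h3.trans hk)
    have h5 : cj (n * (k * x⁻¹)) (cj x P) = cj k P := by rw [cj_mul, h2, cj_eq_of_mem_norm hn]
    have h6 := card_lt_of_lt h1
    rw [card_cj] at h6
    refine ⟨_, h5, hr.res _ _ _ (ih _ h6 _ inf_le_left h4) h1.le, hr.res _ _ _
      (ih _ (by rwa [card_cj]) _ h4 (by rw [cj_inv_cj]; exact inf_le_left)) ?_⟩
    rw [← h5]
    exact cj_mono _ h1.le
  have star : ∀ n ∈ 𝒩(cj k P), r (cj k P) n := by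
    have hc := card_cj k P
    have hlt := lt k hD
    generalize cj k P = D at hT0 hD hc hlt
    obtain ⟨B, hB⟩ := alp_sub (fun n => n ∈ 𝒩(D) ∧ r D n) ⟨one_mem _, hr.cen D hD 1 (one_mem _)⟩
      fun a b ha hb => ⟨mul_mem ha.1 hb.1, hr.mul D b a hD (cj_le_of_mem_norm le_rfl hb.1 |>.trans hD)
        hb.2 (by rw [cj_eq_of_mem_norm hb.1]; exact ha.2)⟩
    have hC : 𝒞(D) ≤ B := fun c hc => (hB c).2 ⟨cent_le_norm D hc, hr.cen D hD c hc⟩
    have hM : Mx A D ≤ B := Mx_le_of hC fun D₁ h1 h2 n hn => (hB n).2 ⟨hn.1, hr.res _ _ _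
      (ih D₁ (hc ▸ card_lt_of_lt h1) n h2 ((cj_eq_of_mem_norm hn.2).le.trans h2)) h1.le⟩
    by_cases h1 : A ⊓ 𝒞(D) ≤ D
    · by_cases h2 : 𝒩(D) ≤ Mx A D
      · exact fun n hn => ((hB n).1 (hM (h2 hn))).2
      · exact he D ⟨hlt, h1, h2⟩ fun m hm => ((hB m).1 (hM hm)).2
    intro n hn
    obtain ⟨c, hc', h2⟩ := sylowOf_subJ (X := cj n (A ⊓ 𝒞(D)))
      (hT0.inf_normal (cent_le_norm D) (norm_cent le_rfl))
      (cj_le_of_mem_norm inf_le_right (norm_cent le_rfl hn))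
      (pi2 (isPGroup_cj.2 (h.2.1.to_le inf_le_left)))
    have hcn := mul_mem (cent_le_norm D hc') hn
    have h3 : D ⊔ A ⊓ 𝒞(D) ≤ A := sup_le hD inf_le_left
    have h4 := ih _ (hc ▸ card_lt_of_lt (left_lt_sup.2 h1)) (c * n) h3 (toA h3 (by
      rw [cj_sup, cj_eq_of_mem_norm hcn, cj_mul]
      exact sup_le (hD.trans hAS) (h2.trans (inf_le_left.trans hk))))
    have h5 := mul_mem (inv_mem (hC hc')) ((hB _).2 ⟨hcn, hr.res _ _ _ h4 le_sup_left⟩)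
    rw [inv_mul_cancel_left] at h5
    exact ((hB n).1 h5).2
  obtain ⟨y, e1, r1, -⟩ := key 1 (by rwa [cj_one])
  obtain ⟨z, e2, -, r2⟩ := key g hg
  rw [cj_one] at e1 r1
  have e3 : cj (z * g * y⁻¹) (cj k P) = cj k P := by
    rw [cj_mul, ← e1, cj_inv_cj, cj_mul, e2, e1]
  have r3 := hr.mul P y _ hP (e1 ▸ hD) r1 (e1 ▸ star _ (mem_norm_iff_cj.2 e3))
  have e4 : cj (z * g * y⁻¹ * y) P = cj k P := by rw [cj_mul, e1, e3]
  have r4 := hr.mul P _ z⁻¹ hP (e4 ▸ hD) r3 (e4 ▸ r2)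
  rwa [inv_mul_cancel_right, inv_mul_cancel_left] at r4

/-- A criterion for strong closure. -/
theorem sc_of_ess (h : SC ⊤ A) (hW : W ≤ A) (hn : 𝒩(A) ≤ 𝒩(W))
    (he : ∀ D, Ess A D → Mx A D ≤ 𝒩(D ⊓ W) → 𝒩(D) ≤ 𝒩(D ⊓ W)) : SC ⊤ W := by
  have h1 := alp (r := fun P g => cj g (P ⊓ W) ≤ W) h
    ⟨fun P P' g h1 h2 => (cj_mono g (inf_le_inf_right W h2)).trans h1,
      fun P g g' _ _ h1 h2 => by
        rw [cj_mul]
        exact (cj_mono g' (le_inf (cj_mono g inf_le_left) h1)).trans h2,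
      fun P _ c hc => (cj_eq_of_mem_cent (cent_anti inf_le_left hc)).le.trans inf_le_right,
      fun g hg => cj_le_of_mem_norm inf_le_right (hn hg)⟩
    fun D e hm g hg => (cj_eq_of_mem_norm (he D e (fun m hm' => mem_norm_of_cj_le
      (le_inf (cj_le_of_mem_norm inf_le_left (Mx_le A D hm')) (hm m hm'))) hg)).le.trans inf_le_right
  obtain ⟨S, hS, hAS⟩ := exists_syl_ge h.2.1 (le_top (a := A))
  refine SC.of_sylow hS (hW.trans hAS) fun x hx g hg hs => ?_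
  exact h1 (zpowers x) g (zpowers_le.2 (hW hx)) (by
    rw [cj_zpowers, zpowers_le]
    exact sc_mem h hAS le_top (syl_pg hS) (hW hx) hg hs)
    (conj_mem_cj.2 (mem_inf.2 ⟨mem_zpowers x, hx⟩))

end Cfsg.Agent.C2
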