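import Cfsg.Agent.C2.Tr
import Cfsg.Agent.H8.Dihedral

set_option autoImplicit false
set_option linter.unusedVariables false
set_option linter.unusedSectionVars false

namespace Cfsg.Agent.C2

open Cfsg Cfsg.Agent.H49 Cfsg.Agent.GOLD Subgroup
open Cfsg.Agent.R2 (Two)
open scoped commutatorElement Pointwise

universe u

section Abstract

variable {W : Type u} [Group W] [Finite W]

/-- The fixed points of an automorphism. -/
def axFx (γ : MulAut W) : Subgroup W where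
  carrier := {w | γ w = w}
  one_mem' := map_one γ
  mul_mem' := fun {a b} (ha : γ a = a) (hb : γ b = b) => by
    show γ (a * b) = a * b
    rw [map_mul, ha, hb]
  inv_mem' := fun {a} (ha : γ a = a) => by
    show γ a⁻¹ = a⁻¹
    rw [map_inv, ha]

theorem mem_axFx {γ : MulAut W} {w : W} : w ∈ axFx γ ↔ γ w = w := Iff.rfl

theorem axFx_conj (n γ : MulAut W) : axFx (n * γ * n⁻¹) = n • axFx γ := by
  ext w
  rw [mem_pointwise_smul_iff_inv_smul_mem, mem_axFx, mem_axFx, MulAut.smul_def, MulAut.mul_apply,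
    MulAut.mul_apply]
  constructor
  · intro h
    have := congrArg (n⁻¹ : MulAut W) h
    rwa [MulAut.inv_apply_self] at this
  · intro h
    rw [h, MulAut.apply_inv_self]

theorem axFx_mul {a b : MulAut W} {w : W} (ha : w ∈ axFx a) (hb : w ∈ axFx b) :
    w ∈ axFx (a * b) := by
  rw [mem_axFx] at *
  rw [MulAut.mul_apply, hb, ha]

/-- The abstract situation: automorphisms of an elementary abelian group. -/
structure AxA (H B : Subgroup (MulAut W)) (W₁ W₂ : Subgroup W) (s t : MulAut W) : Prop where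
  sc : SC H B
  gen : Kof B H = H
  sq : ∀ b ∈ B, b * b = 1
  ax : ∀ b ∈ B, b ≠ 1 → axFx b = W₁ ∨ axFx b = W₂ ∨ axFx b = W₁ ⊓ W₂
  n1 : ¬ W₁ ≤ W₂
  n2 : ¬ W₂ ≤ W₁
  sB : s ∈ B
  tB : t ∈ B
  s1 : s ≠ 1
  t1 : t ≠ 1
  fs : axFx s = W₁
  ft : axFx t = W₂

/-- `x` is conjugate under `H` to an element of `B` with axis `X`. -/
def AxTy (H B : Subgroup (MulAut W)) (X : Subgroup W) (x : MulAut W) : Prop :=
  ∃ h ∈ H, h * x * h⁻¹ ∈ B ∧ axFx (h * x * h⁻¹) = X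

theorem AxTy.conj {H B : Subgroup (MulAut W)} {X : Subgroup W} {x g : MulAut W}
    (h : AxTy H B X x) (hg : g ∈ H) : AxTy H B X (g * x * g⁻¹) := by
  obtain ⟨k, hk, h1, h2⟩ := h
  have e : k * g⁻¹ * (g * x * g⁻¹) * (k * g⁻¹)⁻¹ = k * x * k⁻¹ := by group
  exact ⟨k * g⁻¹, mul_mem hk (inv_mem hg), e ▸ h1, e ▸ h2⟩

namespace AxA

variable {H B : Subgroup (MulAut W)} {W₁ W₂ : Subgroup W} {s t : MulAut W}
  (x : AxA H B W₁ W₂ s t)
include x

theorem symm : AxA H B W₂ W₁ t s :=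
  ⟨x.sc, x.gen, x.sq, fun b hb h1 => by rw [inf_comm]; have := x.ax b hb h1; tauto, x.n2, x.n1,
    x.tB, x.sB, x.t1, x.s1, x.ft, x.fs⟩

theorem ne : W₁ ≠ W₂ := fun h => x.n1 h.le

theorem comm {a b : MulAut W} (ha : a ∈ B) (hb : b ∈ B) : a * b = b * a := by
  have h1 : ∀ c ∈ B, c⁻¹ = c := fun c hc => inv_eq_of_mul_eq_one_right (x.sq c hc)
  rw [← h1 _ (mul_mem ha hb), mul_inv_rev, h1 a ha, h1 b hb]

theorem smul_or {n : MulAut W} (hn : n ∈ 𝒩(B)) : n • W₁ = W₁ ∨ n • W₁ = W₂ := by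
  have h1 : n * s * n⁻¹ ∈ B := (mem_normalizer_iff.1 hn s).1 x.sB
  have h2 : n * s * n⁻¹ ≠ 1 := fun h => x.s1 (by simpa using h)
  have h3 := x.ax _ h1 h2
  rw [axFx_conj, x.fs] at h3
  rcases h3 with h | h | h
  · exact Or.inl h
  · exact Or.inr h
  · exfalso
    have hc : Nat.card ↥(W₁ ⊓ W₂) = Nat.card W₁ := by
      rw [← h]
      exact (Nat.card_congr (Subgroup.equivSMul n W₁).toEquiv).symm
    have := eq_of_le_of_card_ge (inf_le_left : W₁ ⊓ W₂ ≤ W₁) hc.ge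
    exact x.n1 (this ▸ inf_le_right)

theorem smul_eq {n : MulAut W} (hn : n ∈ H ⊓ 𝒩(B)) : n • W₁ = W₁ := by
  refine ns (Y := MulAction.stabilizer (MulAut W) W₁) x.sc x.gen (fun b hb => ?_)
    (fun a ha b hb ha' hb' => ?_) hn
  · rw [MulAction.mem_stabilizer_iff, ← x.fs, ← axFx_conj, x.comm hb x.sB, mul_inv_cancel_right]
  · rw [MulAction.mem_stabilizer_iff] at *
    have h1 := (x.smul_or ha.2).resolve_left ha'
    have h2 := (x.smul_or hb.2).resolve_left hb'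
    rw [mul_smul, h2]
    refine (x.symm.smul_or ha.2).resolve_left fun h => x.ne ?_
    exact MulAction.injective a (h1.trans h.symm)

theorem fx_conj {b g : MulAut W} (hb : b ∈ B) (hg : g ∈ H) (hgb : g * b * g⁻¹ ∈ B) :
    axFx (g * b * g⁻¹) = axFx b := by
  by_cases h1 : b = 1
  · subst h1
    simp
  have hA : IsMulCommutative B := ⟨⟨fun a c => Subtype.ext (x.comm a.2 c.2)⟩⟩
  obtain ⟨n, hn, e⟩ := x.sc.fusion hA le_rfl x.sc.1 x.sc.2.1 (X := zpowers b) (zpowers_le.2 hb) hg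
    (by rw [cj_zpowers]; exact zpowers_le.2 hgb)
  rw [e b (mem_zpowers b), axFx_conj]
  rcases x.ax b hb h1 with h | h | h
  · rw [h, x.smul_eq hn]
  · rw [h, x.symm.smul_eq hn]
  · rw [h, Subgroup.smul_inf, x.smul_eq hn, x.symm.smul_eq hn]

theorem ty_eq {X : Subgroup W} {y k : MulAut W} (h : AxTy H B X y) (hk : k ∈ H)
    (hy : k * y * k⁻¹ ∈ B) : axFx (k * y * k⁻¹) = X := by
  obtain ⟨g, hg, h1, h2⟩ := h
  have e : k * g⁻¹ * (g * y * g⁻¹) * (k * g⁻¹)⁻¹ = k * y * k⁻¹ := by group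
  rw [← h2, ← x.fx_conj h1 (mul_mem hk (inv_mem hg)) (e ▸ hy), e]

theorem ty_ne {y : MulAut W} (h1 : AxTy H B W₁ y) (h2 : AxTy H B W₂ y) : False := by
  obtain ⟨k, hk, h3, h4⟩ := h2
  exact x.ne ((x.ty_eq h1 hk h3).symm.trans h4)

theorem ty_s : AxTy H B W₁ s := ⟨1, one_mem _, by simpa using x.sB, by simpa using x.fs⟩

theorem both {X Y : Subgroup W} {y i : MulAut W} (hy : y ∈ H) (hi : i ∈ H) (y2 : y * y = 1)
    (i2 : i * i = 1) (hc : Commute y i) (h1 : AxTy H B X y) (h2 : AxTy H B Y (y * i)) :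
    ∃ k ∈ H, k * i * k⁻¹ ∈ B ∧ axFx (k * y * k⁻¹) = X ∧ axFx (k * (y * i) * k⁻¹) = Y := by
  obtain ⟨k, hk, -, h3⟩ := PFM.pos x.sc (L := H) (X := closure {y, i}) le_rfl
    (by rw [closure_le]; rintro z (rfl | rfl) <;> assumption)
    (H8.isPGroup_closure_pair_of_commute y2 i2 hc)
  have my : y ∈ closure ({y, i} : Set (MulAut W)) := subset_closure (by simp)
  have mi : i ∈ closure ({y, i} : Set (MulAut W)) := subset_closure (by simp)
  obtain ⟨g, hg, hgy, -⟩ := id h1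
  obtain ⟨g', hg', hgy', -⟩ := id h2
  have a1 := h3 y my g hg hgy
  have a2 := h3 _ (mul_mem my mi) g' hg' hgy'
  refine ⟨k, hk, ?_, x.ty_eq h1 hk a1, x.ty_eq h2 hk a2⟩
  have := mul_mem (inv_mem a1) a2
  rwa [show (k * y * k⁻¹)⁻¹ * (k * (y * i) * k⁻¹) = k * i * k⁻¹ by group] at this

theorem even_case {y i : MulAut W} (hy : y ∈ H) (hi : i ∈ H) (y2 : y * y = 1)
    (i2 : i * i = 1) (i1 : i ≠ 1) (hc : Commute y i) (h1 : AxTy H B W₁ y)
    (h2 : AxTy H B W₁ (y * i)) : AxTy H B W₁ i := by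
  obtain ⟨k, hk, a0, a1, a2⟩ := x.both hy hi y2 i2 hc h1 h2
  refine ⟨k, hk, a0, ?_⟩
  have hle : W₁ ≤ axFx (k * i * k⁻¹) := fun w hw => by
    have := axFx_mul (a1.ge hw) (a2.ge hw)
    rwa [show k * y * k⁻¹ * (k * (y * i) * k⁻¹) = k * ((y * y) * i) * k⁻¹ by group, y2,
      one_mul] at this
  rcases x.ax _ a0 (fun h => i1 (by simpa using h)) with h | h | h
  · exact h
  · exact absurd (hle.trans h.le) x.n1
  · exact absurd (hle.trans (h.le.trans inf_le_right)) x.n1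

theorem odd_case {y i : MulAut W} (hy : y ∈ H) (hi : i ∈ H) (y2 : y * y = 1)
    (i2 : i * i = 1) (i1 : i ≠ 1) (hc : Commute y i) (h1 : AxTy H B W₁ y)
    (h2 : AxTy H B W₂ (y * i)) : axFx i ≤ axFx y := by
  obtain ⟨k, hk, a0, a1, a2⟩ := x.both hy hi y2 i2 hc h1 h2
  have hle : axFx (k * i * k⁻¹) ≤ axFx (k * y * k⁻¹) := by
    rcases x.ax _ a0 (fun h => i1 (by simpa using h)) with h | h | h
    · exact (h.trans a1.symm).le
    · refine absurd (fun w hw => ?_) x.n2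
      have := axFx_mul (a2.ge hw) (h.ge hw)
      rwa [show k * (y * i) * k⁻¹ * (k * i * k⁻¹) = k * (y * (i * i)) * k⁻¹ by group, i2,
        mul_one, a1] at this
    · exact h.le.trans (inf_le_left.trans a1.ge)
  rw [axFx_conj, axFx_conj] at hle
  exact pointwise_smul_le_pointwise_smul_iff.1 hle

end AxA

theorem ax_odd (hc : ∀ a b : W, a * b = b * a) (h2 : ∀ a : W, a * a = 1) {ρ i : MulAut W} {j : ℕ}
    (hj : Odd j) (hρ : ρ ^ j = 1) (i2 : i * i = 1) (hi : Commute ρ i) (hle : axFx i ≤ axFx ρ) :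
    ρ = 1 := by
  letI : CommGroup W := { (inferInstance : Group W) with mul_comm := hc }
  ext w
  have hii : ∀ v, i (i v) = v := fun v => by rw [← MulAut.mul_apply, i2, MulAut.one_apply]
  have hri : ∀ v, i (ρ v) = ρ (i v) := fun v => by
    rw [← MulAut.mul_apply, ← hi.eq, MulAut.mul_apply]
  have h1 : ρ (w * i w) = w * i w := hle (show i (w * i w) = w * i w by
    rw [map_mul, hii, hc])
  have hinv : ∀ v : W, v⁻¹ = v := fun v => inv_eq_of_mul_eq_one_right (h2 v)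
  have h3 : ρ (ρ w * w) = ρ w * w := hle (show i (ρ w * w) = ρ w * w by
    rw [map_mul, hri]
    rw [map_mul] at h1
    have e1 : ρ (i w) = ρ w * (w * i w) := by rw [← h1, ← mul_assoc, h2, one_mul]
    rw [e1, mul_assoc, mul_assoc, h2, mul_one])
  have h4 : ρ w = (ρ w * w) * w := by rw [mul_assoc, h2, mul_one]
  generalize ρ w * w = v at h3 h4
  have h5 : ∀ n : ℕ, (ρ ^ n) w = v ^ n * w := fun n => by
    induction n with
    | zero => simp
    | succ n ih => rw [pow_succ', MulAut.mul_apply, ih, map_mul, map_pow, h3, h4, pow_succ, mul_assoc]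
  have h6 := h5 j
  obtain ⟨l, rfl⟩ := hj
  rw [hρ, MulAut.one_apply, pow_succ, pow_mul, sq, h2, one_pow, one_mul] at h6
  rw [MulAut.one_apply, h4, ← h6]

theorem AxA.main (hc : ∀ a b : W, a * b = b * a) (h2 : ∀ a : W, a * a = 1)
    {H B : Subgroup (MulAut W)} {W₁ W₂ : Subgroup W} {s t : MulAut W} (x : AxA H B W₁ W₂ s t)
    {g k : MulAut W} (hg : g ∈ H) (hk : k ∈ H) : ⁅g * s * g⁻¹, k * t * k⁻¹⁆ = 1 := by
  have Ts := x.ty_s.conj hg
  have Tt := x.symm.ty_s.conj hk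
  have sH : g * s * g⁻¹ ∈ H := mul_mem (mul_mem hg (x.sc.1 x.sB)) (inv_mem hg)
  have tH : k * t * k⁻¹ ∈ H := mul_mem (mul_mem hk (x.sc.1 x.tB)) (inv_mem hk)
  have s2 : g * s * g⁻¹ * (g * s * g⁻¹) = 1 := by rw [conj_mul, x.sq s x.sB]; simp
  have t2 : k * t * k⁻¹ * (k * t * k⁻¹) = 1 := by rw [conj_mul, x.sq t x.tB]; simp
  generalize g * s * g⁻¹ = a at *
  generalize k * t * k⁻¹ = b at *
  have rH : a * b ∈ H := mul_mem sH tH
  have T1 : ∀ n : ℤ, AxTy H B W₁ (a * (a * b) ^ (2 * n)) := fun n => by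
    have := Ts.conj (zpow_mem rH (-n))
    rwa [H8.zpow_conj_left s2 t2, show -(2 * -n) = 2 * n by ring] at this
  have T2 : ∀ n : ℤ, AxTy H B W₂ (a * (a * b) ^ (2 * n + 1)) := fun n => by
    have := Tt.conj (zpow_mem rH (-n))
    rwa [H8.zpow_conj_right s2 t2, show 1 - 2 * -n = 2 * n + 1 by ring] at this
  rcases Nat.even_or_odd (orderOf (a * b)) with hm | hm
  swap
  · obtain ⟨d, hd, e⟩ := H8.exists_conj_of_odd s2 t2 hm
    exact (x.ty_ne (e ▸ Ts.conj (zpowers_le.2 rH hd)) Tt).elim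
  obtain ⟨o2, c1, c2⟩ := H8.central_involution s2 t2 hm
  obtain ⟨j, hj⟩ := hm
  have hj2 : orderOf (a * b) / 2 = j := by omega
  rw [hj2] at o2 c1 c2
  obtain ⟨i2, i1⟩ := H8.orderOf_two_iff.1 o2
  have iH : (a * b) ^ j ∈ H := pow_mem rH j
  have eb : ∀ n : ℕ, b * (a * b) ^ n = a * (a * b) ^ ((n : ℤ) + 1) := fun n => by
    rw [add_comm, zpow_add, zpow_one, zpow_natCast, ← mul_assoc, ← mul_assoc, s2, one_mul]
  rcases Nat.even_or_odd' j with ⟨l, rfl | rfl⟩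
  · refine (x.ty_ne (x.even_case sH iH s2 i2 i1 c1.symm Ts ?_)
      (x.symm.even_case tH iH t2 i2 i1 c2.symm Tt ?_)).elim
    · have := T1 l
      rwa [show 2 * (l : ℤ) = ((2 * l : ℕ) : ℤ) by push_cast; ring, zpow_natCast] at this
    · have := T2 l
      rwa [show 2 * (l : ℤ) = ((2 * l : ℕ) : ℤ) by push_cast; ring, ← eb] at this
  · have f1 := x.odd_case sH iH s2 i2 i1 c1.symm Ts (by
      have := T2 l
      rwa [show 2 * (l : ℤ) + 1 = ((2 * l + 1 : ℕ) : ℤ) by push_cast; ring, zpow_natCast] at this)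
    have f2 := x.symm.odd_case tH iH t2 i2 i1 c2.symm Tt (by
      have := T1 (l + 1)
      rwa [show 2 * ((l : ℤ) + 1) = ((2 * l + 1 : ℕ) : ℤ) + 1 by push_cast; ring, ← eb] at this)
    have := ax_odd hc h2 (ρ := a * b * (a * b)) (i := (a * b) ^ (2 * l + 1)) ⟨l, rfl⟩
      (show (a * b * (a * b)) ^ (2 * l + 1) = 1 by
        rw [← pow_two, ← pow_mul, two_mul, ← hj, pow_orderOf_eq_one]) i2
      (((Commute.refl _).pow_right _).mul_left ((Commute.refl _).pow_right _))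
      fun w hw => axFx_mul (axFx_mul (f1 hw) (f2 hw)) (axFx_mul (f1 hw) (f2 hw))
    rw [commutatorElement_def, inv_eq_of_mul_eq_one_right s2, inv_eq_of_mul_eq_one_right t2,
      mul_assoc (a * b), this]

end Abstract

variable {G : Type u} [Group G] [Finite G] {H B V D E V₁ V₂ : Subgroup G}

theorem Axs.comm (x : Axs H B V D E V₁ V₂) {s t g k : G} (hs : s ∈ D) (ht : t ∈ E) (hg : g ∈ H)
    (hk : k ∈ H) : ⁅g * s * g⁻¹, k * t * k⁻¹⁆ ∈ 𝒞(V) := by
  let φ : H →* MulAut V := V.normalizerMonoidHom.comp (inclusion x.norm)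
  have hφ : ∀ (h : H) (v : V), ((φ h v : V) : G) = h * v * (h : G)⁻¹ := fun h v => rfl
  have hker : ∀ h : H, φ h = 1 ↔ (h : G) ∈ 𝒞(V) := fun h => by
    rw [← MonoidHom.mem_ker, ← MonoidHom.comap_ker, normalizerMonoidHom_ker]
    rfl
  have hfx : ∀ h : H, axFx (φ h) = (V ⊓ 𝒞[(h : G)]).subgroupOf V := fun h => by
    ext v
    rw [mem_axFx, mem_subgroupOf, mem_inf, mem_cent1, Subtype.ext_iff, hφ, mul_inv_eq_iff_eq_mul]
    exact ⟨fun e => ⟨v.2, e.symm⟩, fun e => e.2.symm⟩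
  have sH : s ∈ H := x.sc.1 (x.DB hs)
  have tH : t ∈ H := x.sc.1 (x.EB ht)
  have goal : ⁅φ ⟨g, hg⟩ * φ ⟨s, sH⟩ * (φ ⟨g, hg⟩)⁻¹, φ ⟨k, hk⟩ * φ ⟨t, tH⟩ * (φ ⟨k, hk⟩)⁻¹⁆ = 1 →
      ⁅g * s * g⁻¹, k * t * k⁻¹⁆ ∈ 𝒞(V) := fun h => by
    rw [← map_inv, ← map_inv, ← map_mul, ← map_mul, ← map_mul, ← map_mul, ← map_commutatorElement,
      hker] at h
    exact h
  apply goal
  have hcen : ∀ b : H, (b : G) ∈ B → (φ b = 1 ↔ (b : G) ∈ D ∧ (b : G) ∈ E) := fun b hb => by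
    rw [hker, ← mem_inf, ← x.cen, mem_inf]
    exact ⟨fun h => ⟨hb, h⟩, fun h => h.2⟩
  by_cases hsE : s ∈ E
  · rw [(hcen ⟨s, sH⟩ (x.DB hs)).2 ⟨hs, hsE⟩]
    simp
  by_cases htD : t ∈ D
  · rw [(hcen ⟨t, tH⟩ (x.EB ht)).2 ⟨htD, ht⟩]
    simp
  have hV1 : V₁ ≤ V := (x.c1 s hs hsE).ge.trans inf_le_left
  have hV2 : V₂ ≤ V := (x.c2 t ht htD).ge.trans inf_le_left
  have y : AxA ((⊤ : Subgroup H).map φ) ((B.subgroupOf H).map φ) (V₁.subgroupOf V)
      (V₂.subgroupOf V) (φ ⟨s, sH⟩) (φ ⟨t, tH⟩) := by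
    refine ⟨x.sc.subgroupOf.map φ, ?_, ?_, ?_, ?_, ?_, mem_map_of_mem φ (x.DB hs),
      mem_map_of_mem φ (x.EB ht), fun h => hsE ((hcen _ (x.DB hs)).1 h).2,
      fun h => htD ((hcen _ (x.EB ht)).1 h).1, ?_, ?_⟩
    · refine le_antisymm (Kof_le_self (map_mono le_top)) ?_
      have key : Kof B H ≤ ((Kof ((B.subgroupOf H).map φ) ((⊤ : Subgroup H).map φ)).comap φ).map
          H.subtype := by
        refine iSup_le fun a y hy => ?_
        obtain ⟨b, hb, rfl⟩ := mem_cj'.1 hy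
        refine ⟨a * ⟨b, x.sc.1 hb⟩ * a⁻¹, ?_, rfl⟩
        rw [SetLike.mem_coe, mem_comap, map_mul, map_mul, map_inv]
        exact cj_le_Kof (mem_map_of_mem φ (mem_top a)) (conj_mem_cj.2 (mem_map_of_mem φ hb))
      rintro _ ⟨a, -, rfl⟩
      obtain ⟨a', h1, h2⟩ := key (x.gen.ge a.2)
      exact (Subtype.ext h2 : a' = a) ▸ h1
    · rintro _ ⟨b, hb, rfl⟩
      rw [← map_mul, hker]
      exact x.sq b hb
    · rintro _ ⟨b, hb, rfl⟩ h1
      rw [hfx]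
      by_cases hD : (b : G) ∈ D <;> by_cases hE : (b : G) ∈ E
      · exact absurd ((hcen b hb).2 ⟨hD, hE⟩) h1
      · exact Or.inl (by rw [x.c1 _ hD hE])
      · exact Or.inr (Or.inl (by rw [x.c2 _ hE hD]))
      · exact Or.inr (Or.inr (by rw [x.c0 (b : G) hb hD hE]; rfl))
    · exact fun h => x.n1 fun v hv => h (show (⟨v, hV1 hv⟩ : V) ∈ V₁.subgroupOf V from hv)
    · exact fun h => x.n2 fun v hv => h (show (⟨v, hV2 hv⟩ : V) ∈ V₂.subgroupOf V from hv)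
    · rw [hfx, x.c1 s hs hsE]
    · rw [hfx, x.c2 t ht htD]
  exact y.main (fun a b => x.ea.1.1.1 a b)
    (fun a => Subtype.ext ((pow_two (a : G)).symm.trans (x.ea.2 a a.2)))
    (mem_map_of_mem φ (mem_top _)) (mem_map_of_mem φ (mem_top _))

end Cfsg.Agent.C2
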