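import Cfsg.Agent.C2.Defs

/-! Elementary facts on `Z0`, `Mx`, `Vof`, `Rof`, `Uof`. -/

set_option autoImplicit false
set_option linter.unusedSectionVars false

namespace Cfsg.Agent.C2

open Cfsg Cfsg.Agent.H49 Cfsg.Agent.GOLD Subgroup
open Cfsg.Agent.R2 (Two)
open scoped commutatorElement

universe u

variable {G : Type u} [Group G] [Finite G] {A D D' X : Subgroup G} {q : ℕ}

theorem Z0_le (A : Subgroup G) : Z0 A ≤ A := fun _ h => h.1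

theorem Z0_cent (A : Subgroup G) : Z0 A ≤ 𝒞(A) := fun _ h => h.2.1

theorem cent_Z0 (A : Subgroup G) : A ≤ 𝒞(Z0 A) := cent_symm (Z0_cent A)

theorem Z0_sq {z : G} (h : z ∈ Z0 A) : z * z = 1 := h.2.2

theorem Z0_comm {z a : G} (hz : z ∈ Z0 A) (ha : a ∈ A) : a * z = z * a := hz.2.1 a ha

theorem Z0_fix {z a : G} (hz : z ∈ Z0 A) (ha : a ∈ A) : a * z * a⁻¹ = z := by
  rw [Z0_comm hz ha, mul_inv_cancel_right]

theorem ea_of_sq (h : ∀ x ∈ X, x * x = 1) : EA X := by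
  refine ⟨abelian_iff.2 fun a ha b hb => ?_, fun x => ?_⟩
  · have h1 := h _ (mul_mem ha hb)
    have ia := inv_eq_of_mul_eq_one_right (h a ha)
    have ib := inv_eq_of_mul_eq_one_right (h b hb)
    have h2 := inv_eq_of_mul_eq_one_right h1
    rw [mul_inv_rev, ia, ib] at h2
    exact h2
  · intro hx
    simpa [pow_two] using h x hx

theorem ea_Z0 (A : Subgroup G) : EA (Z0 A) := ea_of_sq fun _ => Z0_sq

theorem cj_Z0 (g : G) (A : Subgroup G) : cj g (Z0 A) = Z0 (cj g A) := by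
  ext x
  rw [mem_cj, mem_Z0, mem_Z0, ← cj_centralizer, mem_cj, mem_cj,
    show g⁻¹ * x * g * (g⁻¹ * x * g) = g⁻¹ * (x * x) * g by group]
  refine and_congr_right fun _ => and_congr_right fun _ => ⟨fun h => ?_, fun h => by simp [h]⟩
  calc x * x = g * (g⁻¹ * (x * x) * g) * g⁻¹ := by group
    _ = 1 := by rw [h]; group

theorem norm_Z0 (A : Subgroup G) : 𝒩(A) ≤ 𝒩(Z0 A) := fun g hg => by
  rw [mem_norm_iff_cj, cj_Z0, mem_norm_iff_cj.1 hg]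

theorem Z0_ne (h : IsPGroup 2 A) (hA : A ≠ ⊥) : Z0 A ≠ ⊥ := fun e => by
  obtain ⟨z, hz, hz2, hz1⟩ := H71.exists_central_inv h hA
  exact hz1 (mem_bot.1 (e ▸ (⟨hz.1, hz.2, hz2⟩ : z ∈ Z0 A)))

theorem cent_le_Mx (A D : Subgroup G) : 𝒞(D) ≤ Mx A D := le_sup_left

theorem inf_le_Mx {D₁ : Subgroup G} (h1 : D < D₁) (h2 : D₁ ≤ A) : 𝒩(D) ⊓ 𝒩(D₁) ≤ Mx A D :=
  le_trans (le_sSup (s := {X | ∃ D₁, D < D₁ ∧ D₁ ≤ A ∧ X = 𝒩(D) ⊓ 𝒩(D₁)}) ⟨D₁, h1, h2, rfl⟩)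
    le_sup_right

theorem Mx_le_of (h1 : 𝒞(D) ≤ X) (h2 : ∀ D₁, D < D₁ → D₁ ≤ A → 𝒩(D) ⊓ 𝒩(D₁) ≤ X) :
    Mx A D ≤ X :=
  sup_le h1 (sSup_le fun _ ⟨D₁, h3, h4, e⟩ => e ▸ h2 D₁ h3 h4)

theorem Mx_le (A D : Subgroup G) : Mx A D ≤ 𝒩(D) :=
  Mx_le_of (cent_le_norm D) fun _ _ _ => inf_le_left

theorem cj_Mx_le (g : G) (A D : Subgroup G) : cj g (Mx A D) ≤ Mx (cj g A) (cj g D) := by
  rw [cj_le_iff]
  refine Mx_le_of ?_ fun D₁ h1 h2 => ?_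
  · rw [← cj_le_iff, cj_centralizer]; exact cent_le_Mx _ _
  · rw [← cj_le_iff, cj_inf, cj_normalizer, cj_normalizer]
    exact inf_le_Mx (cj_lt_cj_iff.2 h1) (cj_mono g h2)

theorem cj_Mx (g : G) (A D : Subgroup G) : cj g (Mx A D) = Mx (cj g A) (cj g D) := by
  refine le_antisymm (cj_Mx_le g A D) ?_
  have := cj_mono g (cj_Mx_le g⁻¹ (cj g A) (cj g D))
  rwa [cj_cj_inv, cj_inv_cj, cj_inv_cj] at this

theorem Ess.conj (e : Ess A D) (g : G) : Ess (cj g A) (cj g D) :=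
  ⟨cj_lt_cj_iff.2 e.lt, by rw [← cj_centralizer, ← cj_inf]; exact cj_mono g e.cen, fun h =>
    e.out (by rwa [← cj_normalizer, ← cj_Mx, cj_le_cj_iff] at h)⟩

theorem Ess.conj' (e : Ess A D) {g : G} (hg : g ∈ 𝒩(A)) : Ess A (cj g D) := by
  have := e.conj g
  rwa [mem_norm_iff_cj.1 hg] at this

theorem cj_Vof (g : G) (A D : Subgroup G) : cj g (Vof A D) = Vof (cj g A) (cj g D) := by
  rw [Vof, Vof, cj_Kof, cj_Z0, cj_normalizer]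

theorem cj_Uof (g : G) (A D : Subgroup G) : cj g (Uof A D) = Uof (cj g A) (cj g D) := by
  rw [Uof, Uof, cj_Kof, cj_commutator, cj_Vof, cj_normalizer]

theorem cj_Rof_le (g : G) (A D : Subgroup G) : cj g (Rof A D) ≤ Rof (cj g A) (cj g D) := by
  intro x hx n hn
  rw [← cj_normalizer, mem_cj] at hn
  rw [← cj_Z0, mem_cj]
  have := mem_cj.1 hx _ hn
  rwa [show g⁻¹ * n * g * (g⁻¹ * x * g) * (g⁻¹ * n * g)⁻¹ = g⁻¹ * (n * x * n⁻¹) * g by group]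
    at this

theorem cj_Rof (g : G) (A D : Subgroup G) : cj g (Rof A D) = Rof (cj g A) (cj g D) := by
  refine le_antisymm (cj_Rof_le g A D) ?_
  have := cj_mono g (cj_Rof_le g⁻¹ (cj g A) (cj g D))
  rwa [cj_cj_inv, cj_inv_cj, cj_inv_cj] at this

theorem Rof_le (A D : Subgroup G) : Rof A D ≤ Z0 A := fun x hx => by
  simpa using hx 1 (one_mem _)

theorem norm_Rof (A D : Subgroup G) : 𝒩(D) ≤ 𝒩(Rof A D) :=
  le_norm_iff.2 fun g hg x hx n hn => by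
    have := hx _ (mul_mem hn hg)
    rwa [show n * g * x * (n * g)⁻¹ = n * (g * x * g⁻¹) * n⁻¹ by group] at this

theorem le_Rof (h1 : X ≤ Z0 A) (h2 : 𝒩(D) ≤ 𝒩(X)) : X ≤ Rof A D :=
  fun _ hx _ hg => h1 (conj_mem_of_norm h2 hg hx)

theorem Rof_le_cj {g : G} (hg : g ∈ 𝒩(D)) : Rof A D ≤ cj g (Z0 A) := fun x hx => by
  have := hx _ (inv_mem hg)
  rwa [inv_inv, ← mem_cj] at this

/-- `⟨A^{N(D)}⟩` centralizes `R_D`. -/
theorem K_cent_Rof (A D : Subgroup G) : Kof A 𝒩(D) ≤ 𝒞(Rof A D) :=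
  Kof_le (cent_symm ((Rof_le A D).trans (Z0_cent A))) (norm_cent (norm_Rof A D))

theorem Z0_le_Vof (A D : Subgroup G) : Z0 A ≤ Vof A D := le_Kof _ _

theorem cj_le_Vof {g : G} (hg : g ∈ 𝒩(D)) : cj g (Z0 A) ≤ Vof A D := cj_le_Kof hg

theorem norm_Vof (A D : Subgroup G) : 𝒩(D) ≤ 𝒩(Vof A D) := le_norm_Kof _ _

theorem norm_Uof (A D : Subgroup G) : 𝒩(D) ≤ 𝒩(Uof A D) := le_norm_Kof _ _

theorem comm_le_Uof (A D : Subgroup G) : ⁅Vof A D, A⁆ ≤ Uof A D := le_Kof _ _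

theorem K_le (h : A ≤ 𝒩(D)) : Kof A 𝒩(D) ≤ 𝒩(D) := Kof_le_self h

theorem Kof_top [IsSimpleGroup G] (hA : A ≠ ⊥) : Kof A ⊤ = ⊤ := by
  have : (Kof A ⊤).Normal := by
    rw [← normalizer_eq_top_iff, eq_top_iff]; exact le_norm_Kof A ⊤
  exact (Subgroup.Normal.eq_bot_or_eq_top this).resolve_left fun e =>
    hA (le_bot_iff.1 (e ▸ le_Kof A ⊤))

namespace Ess

theorem le (e : Ess A D) : D ≤ A := e.lt.le

theorem exists_not (e : Ess A D) : ∃ a ∈ A, a ∉ D := SetLike.exists_of_lt e.lt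

theorem Z_le (e : Ess A D) : A ⊓ 𝒞(A) ≤ D :=
  (inf_le_inf_left _ (centralizer_le e.le)).trans e.cen

theorem Z0_le (e : Ess A D) : Z0 A ≤ D := (le_inf (C2.Z0_le A) (Z0_cent A)).trans e.Z_le

theorem Z0_le_Z0 (e : Ess A D) : Z0 A ≤ Z0 D := fun _ hz =>
  ⟨e.Z0_le hz, centralizer_le e.le hz.2.1, hz.2.2⟩

theorem V_le_Z0 (e : Ess A D) : Vof A D ≤ Z0 D := Kof_le e.Z0_le_Z0 (norm_Z0 D)

theorem V_le (e : Ess A D) : Vof A D ≤ D := e.V_le_Z0.trans (C2.Z0_le D)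

theorem V_le_A (e : Ess A D) : Vof A D ≤ A := e.V_le.trans e.le

theorem V_cent (e : Ess A D) : D ≤ 𝒞(Vof A D) := cent_symm (e.V_le_Z0.trans (Z0_cent D))

theorem V_sq (e : Ess A D) {v : G} (hv : v ∈ Vof A D) : v * v = 1 := Z0_sq (e.V_le_Z0 hv)

theorem ea (e : Ess A D) : EA (Vof A D) := ea_of_sq fun _ => e.V_sq

theorem V_inf (e : Ess A D) : Vof A D ⊓ 𝒞(A) = Z0 A :=
  le_antisymm (fun _ hv => ⟨e.V_le_A hv.1, hv.2, e.V_sq hv.1⟩)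
    (le_inf (Z0_le_Vof A D) (Z0_cent A))

theorem V_inf_cj (e : Ess A D) {g : G} (hg : g ∈ 𝒩(D)) :
    Vof A D ⊓ 𝒞(cj g A) = cj g (Z0 A) := by
  rw [← e.V_inf, cj_inf, cj_centralizer, mem_norm_iff_cj.1 (norm_Vof A D hg)]

theorem normA_le (e : Ess A D) : 𝒩(D) ⊓ 𝒩(A) ≤ Mx A D := inf_le_Mx e.lt le_rfl

theorem norm (e : Ess A D) (h : Min A) : A ≤ 𝒩(D) :=
  norm_of_der_le ((le_inf (commutator_le_left_of_norm le_normalizer) h.cl).trans e.Z_le) e.le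

theorem A_le_Mx (e : Ess A D) (h : Min A) : A ≤ Mx A D :=
  (le_inf (e.norm h) le_normalizer).trans e.normA_le

theorem normV (e : Ess A D) (h : Min A) : A ≤ 𝒩(Vof A D) := (e.norm h).trans (norm_Vof A D)

theorem U_le (e : Ess A D) (h : Min A) : Uof A D ≤ Vof A D :=
  Kof_le (commutator_le_left_of_norm (e.normV h)) (norm_Vof A D)

theorem U_le_A (e : Ess A D) (h : Min A) : Uof A D ≤ A := (e.U_le h).trans e.V_le_A

theorem K_le (e : Ess A D) (h : Min A) : Kof A 𝒩(D) ≤ 𝒩(D) := C2.K_le (e.norm h)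

theorem sq_mem (e : Ess A D) (h : Min2 A) {d : G} (hd : d ∈ D) : d * d ∈ Rof A D := fun g hg => by
  have := h.sq _ (e.le (conj_mem_of_norm le_rfl hg hd))
  rwa [show g * d * g⁻¹ * (g * d * g⁻¹) = g * (d * d) * g⁻¹ by group] at this

theorem der_le (e : Ess A D) (h : Min2 A) : ⁅D, D⁆ ≤ Rof A D :=
  le_Rof ((commutator_mono e.le e.le).trans h.der) (norm_commutator le_rfl le_rfl)

theorem comm_mem (e : Ess A D) (h : Min2 A) {c d : G} (hc : c ∈ D) (hd : d ∈ D) :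
    ⁅c, d⁆ ∈ Rof A D := e.der_le h (commutator_mem_commutator hc hd)

theorem commV_le (e : Ess A D) (h : Min2 A) : ⁅Vof A D, A⁆ ≤ Z0 A :=
  (commutator_mono e.V_le_A le_rfl).trans h.der

end Ess

/-- The elements of `N(D)` that centralize `D / V`. -/
def CM (D V : Subgroup G) : Subgroup G where
  carrier := {g | g ∈ 𝒩(D) ∧ g ∈ 𝒩(V) ∧ ∀ d ∈ D, g * d * g⁻¹ * d⁻¹ ∈ V}
  one_mem' := ⟨one_mem _, one_mem _, fun x _ => by simp⟩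
  mul_mem' := by
    rintro a b ⟨ha1, ha2, ha3⟩ ⟨hb1, hb2, hb3⟩
    refine ⟨mul_mem ha1 hb1, mul_mem ha2 hb2, fun x hx => ?_⟩
    have h2 := mul_mem (conj_mem_of_norm le_rfl ha2 (hb3 x hx)) (ha3 x hx)
    rwa [show a * (b * x * b⁻¹ * x⁻¹) * a⁻¹ * (a * x * a⁻¹ * x⁻¹) = a * b * x * (a * b)⁻¹ * x⁻¹ by
      group] at h2
  inv_mem' := by
    rintro a ⟨ha1, ha2, ha3⟩
    refine ⟨inv_mem ha1, inv_mem ha2, fun x hx => ?_⟩
    have h1 := conj_mem_of_norm le_rfl (inv_mem ha2) (inv_mem (ha3 x hx))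
    rwa [show a⁻¹ * (a * x * a⁻¹ * x⁻¹)⁻¹ * a⁻¹⁻¹ = a⁻¹ * x * a⁻¹⁻¹ * x⁻¹ by group] at h1

theorem mem_CM {V : Subgroup G} {g : G} :
    g ∈ CM D V ↔ g ∈ 𝒩(D) ∧ g ∈ 𝒩(V) ∧ ∀ d ∈ D, g * d * g⁻¹ * d⁻¹ ∈ V := Iff.rfl

theorem norm_CM {V : Subgroup G} (h1 : X ≤ 𝒩(D)) (h2 : X ≤ 𝒩(V)) : X ≤ 𝒩(CM D V) :=
  le_norm_iff.2 fun x hx g hg => ⟨mul_mem (mul_mem (h1 hx) hg.1) (inv_mem (h1 hx)),
    mul_mem (mul_mem (h2 hx) hg.2.1) (inv_mem (h2 hx)), fun d hd => by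
      have := conj_mem_of_norm h2 hx (hg.2.2 _ (conj_mem_of_norm' h1 hx hd))
      rwa [show x * (g * (x⁻¹ * d * x) * g⁻¹ * (x⁻¹ * d * x)⁻¹) * x⁻¹ =
        x * g * x⁻¹ * d * (x * g * x⁻¹)⁻¹ * d⁻¹ by group] at this⟩

theorem Min2.comm_mem (h : Min2 A) {a b : G} (ha : a ∈ A) (hb : b ∈ A) : ⁅a, b⁆ ∈ Z0 A :=
  h.der (commutator_mem_commutator ha hb)

theorem Ess.A_le_CM (e : Ess A D) (h : Min2 A) : A ≤ CM D (Vof A D) := fun _ ha =>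
  ⟨e.norm h.toMin ha, e.normV h.toMin ha, fun _ hd => Z0_le_Vof A D (h.comm_mem ha (e.le hd))⟩

/-- `⟨A^{N(D)}⟩` centralizes `D / V_D`. -/
theorem Ess.K_le_CM (e : Ess A D) (h : Min2 A) : Kof A 𝒩(D) ≤ CM D (Vof A D) :=
  Kof_le (e.A_le_CM h) (norm_CM le_rfl (norm_Vof A D))

theorem Min.pg (h : Min A) : IsPGroup 2 A := h.sc.2.1

theorem Min.ne (h : Min A) : A ≠ ⊥ := fun e => h.nab (e ▸ bot_le)

theorem Min.Z0_ne (h : Min A) : Z0 A ≠ ⊥ := C2.Z0_ne h.pg h.ne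

theorem Min.cc (h : Min A) {a b c : G} (ha : a ∈ A) (hb : b ∈ A) (hc : c ∈ A) :
    c * ⁅a, b⁆ = ⁅a, b⁆ * c := h.cl (commutator_mem_commutator ha hb) c hc

theorem Min.comm_mul_left (h : Min A) {a b c : G} (ha : a ∈ A) (hb : b ∈ A) (hc : c ∈ A) :
    ⁅a * b, c⁆ = ⁅a, c⁆ * ⁅b, c⁆ := by
  have e := h.cc hb hc ha
  have e2 := h.cc hb hc (commutator_le_left_of_norm le_normalizer (commutator_mem_commutator ha hc))
  rw [e2]
  calc ⁅a * b, c⁆ = a * ⁅b, c⁆ * a⁻¹ * ⁅a, c⁆ := by simp only [commutatorElement_def]; group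
    _ = _ := by rw [e]; group

theorem Min.comm_mul_right (h : Min A) {a b c : G} (ha : a ∈ A) (hb : b ∈ A) (hc : c ∈ A) :
    ⁅a, b * c⁆ = ⁅a, b⁆ * ⁅a, c⁆ := by
  have e := h.cc ha hc hb
  calc ⁅a, b * c⁆ = ⁅a, b⁆ * (b * ⁅a, c⁆ * b⁻¹) := by simp only [commutatorElement_def]; group
    _ = _ := by rw [e]; group

theorem Par.symm (p : Par A D D' q) : Par A D' D q :=
  ⟨p.r, p.l, p.out', p.out, p.sup', p.sup, p.inf', p.inf⟩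

theorem Loc.ess (l : Loc A D q) : Ess A D := l.toTI.toEss

/-- An element of `⟨A^{N(D)}⟩` that moves `Z0 A`. -/
theorem Loc.exists_mv (l : Loc A D q) : ∃ k ∈ Kof A 𝒩(D), k ∉ 𝒩(Z0 A) := by
  obtain ⟨g, hg, hg'⟩ := SetLike.not_le_iff_exists.1 l.out
  obtain ⟨a, ha, ha'⟩ := l.ess.exists_not
  have h1 : g ∉ 𝒩(Z0 A) := fun e => hg' (l.mx ▸ ⟨hg, e⟩)
  exact ⟨_, cj_le_Kof hg (conj_mem_cj.2 ha), l.mv g hg h1 a ha ha'⟩

theorem One.symm {U U' : Subgroup G} (o : One A U U' q) : One A U' U q :=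
  ⟨o.min, o.par.symm, o.two.symm, o.Z.trans (inf_comm _ _), o.V', o.V,
    o.der.trans (commutator_comm _ _), (inf_comm _ _).trans o.c0⟩

theorem Top.symm {S U U' : Subgroup G} (t : Top S A U U' q) : Top S A U' U q :=
  ⟨t.toOne.symm, t.syl, t.le, t.nU', t.nU, t.dec⟩

theorem Gd.conj {U : Subgroup G} {c : G} (h : Gd A U c) (g : G) :
    Gd (cj g A) (cj g U) (g * c * g⁻¹) := by
  obtain ⟨h1, k, h2, h3, h4⟩ := h
  refine ⟨by rw [← cj_centralizer]; exact conj_mem_cj.2 h1, g * k * g⁻¹,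
    by rw [← cj_normalizer]; exact conj_mem_cj.2 h2, fun e => h3 ?_, ?_⟩
  · rwa [← cj_Z0, ← cj_normalizer, conj_mem_cj] at e
  · calc g * k * g⁻¹ * (g * c * g⁻¹) = g * (k * c) * g⁻¹ := by group
      _ = _ := by rw [h4]; group

end Cfsg.Agent.C2
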