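import Cfsg.Agent.PFM.Defs
import Cfsg.Agent.R2.Basic

/-!
Vocabulary for strongly closed 2-subgroups of class two (see notes/C2.md).
-/

set_option autoImplicit false

namespace Cfsg.Agent.C2

open Cfsg Cfsg.Agent.H49 Cfsg.Agent.GOLD Subgroup
open Cfsg.Agent.R2 (Two)
open scoped commutatorElement

universe u

variable {G : Type u} [Group G]

/-- `Ω₁ Z(A)`. -/
def Z0 (A : Subgroup G) : Subgroup G where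
  carrier := {z | z ∈ A ∧ z ∈ 𝒞(A) ∧ z * z = 1}
  one_mem' := ⟨one_mem _, one_mem _, mul_one _⟩
  mul_mem' := by
    rintro a b ⟨ha1, ha2, ha3⟩ ⟨hb1, hb2, hb3⟩
    refine ⟨mul_mem ha1 hb1, mul_mem ha2 hb2, ?_⟩
    have e : b * a = a * b := ha2 b hb1
    calc a * b * (a * b) = a * (b * a) * b := by group
      _ = a * a * (b * b) := by rw [e]; group
      _ = 1 := by rw [ha3, hb3, mul_one]
  inv_mem' := by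
    rintro a ⟨ha1, ha2, ha3⟩
    exact ⟨inv_mem ha1, inv_mem ha2, by rw [← mul_inv_rev, ha3, inv_one]⟩

theorem mem_Z0 {A : Subgroup G} {z : G} : z ∈ Z0 A ↔ z ∈ A ∧ z ∈ 𝒞(A) ∧ z * z = 1 := Iff.rfl

/-- The part of `N(D)` whose action on `D` comes from larger subgroups of `A`. -/
def Mx (A D : Subgroup G) : Subgroup G :=
  𝒞(D) ⊔ sSup {X | ∃ D₁, D < D₁ ∧ D₁ ≤ A ∧ X = 𝒩(D) ⊓ 𝒩(D₁)}

/-- Essential subgroups of `A`. -/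
structure Ess (A D : Subgroup G) : Prop where
  lt : D < A
  cen : A ⊓ 𝒞(D) ≤ D
  out : ¬ 𝒩(D) ≤ Mx A D

/-- A property of conjugation maps between subgroups of `A` that fusion arguments propagate. -/
structure Rel (A : Subgroup G) (r : Subgroup G → G → Prop) : Prop where
  res : ∀ P P' g, r P g → P' ≤ P → r P' g
  mul : ∀ P g g', P ≤ A → cj g P ≤ A → r P g → r (cj g P) g' → r P (g' * g)
  cen : ∀ P, P ≤ A → ∀ c ∈ 𝒞(P), r P c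
  nor : ∀ g ∈ 𝒩(A), r A g

/-- `V_D`, generated by the conjugates of `Z0 A` under `N(D)`. -/
def Vof (A D : Subgroup G) : Subgroup G := Kof (Z0 A) 𝒩(D)

/-- `R_D`, the intersection of the conjugates of `Z0 A` under `N(D)`. -/
def Rof (A D : Subgroup G) : Subgroup G where
  carrier := {x | ∀ g ∈ 𝒩(D), g * x * g⁻¹ ∈ Z0 A}
  one_mem' := fun g _ => by simp
  mul_mem' := fun {a b} ha hb g hg => by
    have := mul_mem (ha g hg) (hb g hg)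
    rwa [show g * a * g⁻¹ * (g * b * g⁻¹) = g * (a * b) * g⁻¹ by group] at this
  inv_mem' := fun {a} ha g hg => by
    have := inv_mem (ha g hg)
    rwa [show (g * a * g⁻¹)⁻¹ = g * a⁻¹ * g⁻¹ by group] at this

theorem mem_Rof {A D : Subgroup G} {x : G} :
    x ∈ Rof A D ↔ ∀ g ∈ 𝒩(D), g * x * g⁻¹ ∈ Z0 A := Iff.rfl

/-- `U_D`, generated by the conjugates of `[V_D, A]` under `N(D)`. -/
def Uof (A D : Subgroup G) : Subgroup G := Kof ⁅Vof A D, A⁆ 𝒩(D)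

/-- A minimal strongly closed subgroup, of class two. -/
structure Min (A : Subgroup G) : Prop where
  sc : SC ⊤ A
  cl : ⁅A, A⁆ ≤ 𝒞(A)
  nab : ¬ A ≤ 𝒞(A)
  min : ∀ B : Subgroup G, B ≤ A → SC ⊤ B → B ≠ ⊥ → B = A

/-- Commutators and squares lie in `Z0 A`. -/
structure Min2 (A : Subgroup G) : Prop extends Min A where
  der : ⁅A, A⁆ ≤ Z0 A
  sq : ∀ a ∈ A, a * a ∈ Z0 A

/-- An essential subgroup with the numerical equalities. -/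
structure TI (A D : Subgroup G) (q : ℕ) : Prop extends Ess A D where
  idx : D.relIndex A = q
  idxV : (Z0 A).relIndex (Vof A D) = q
  ti : ∀ a ∈ A, a ∉ D → Vof A D ⊓ 𝒞[a] ≤ Z0 A

/-- The rank one structure of `N(D)`: the conjugates of `Z0 A` are the `q + 1` points. -/
structure Loc (A D : Subgroup G) (q : ℕ) : Prop extends TI A D q where
  two : 2 ≤ q
  cenV : A ⊓ 𝒞(Vof A D) = D
  mx : Mx A D = 𝒩(D) ⊓ 𝒩(Z0 A)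
  fr : ∀ g ∈ 𝒩(D), g ∈ 𝒩(Z0 A) → ∃ c ∈ 𝒞(D), ∃ n ∈ 𝒩(D) ⊓ 𝒩(A), g = c * n
  idxR : (Rof A D).relIndex (Z0 A) = q
  inf : ∀ h ∈ 𝒩(D), h ∉ 𝒩(Z0 A) → Z0 A ⊓ cj h (Z0 A) = Rof A D
  prod : ∀ h ∈ 𝒩(D), h ∉ 𝒩(Z0 A) → ∀ v ∈ Vof A D, ∃ z ∈ Z0 A, ∃ z' ∈ cj h (Z0 A), v = z * z'
  tr : ∀ h ∈ 𝒩(D), h ∉ 𝒩(Z0 A) → ∀ h' ∈ 𝒩(D), h' ∉ 𝒩(Z0 A) →
    ∃ a ∈ A, cj a (cj h (Z0 A)) = cj h' (Z0 A)
  reg : ∀ h ∈ 𝒩(D), h ∉ 𝒩(Z0 A) → ∀ a ∈ A, a ∈ 𝒩(cj h (Z0 A)) → a ∈ D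
  cover : ∀ h ∈ 𝒩(D), h ∉ 𝒩(Z0 A) → ∀ v ∈ Vof A D, v ∉ Z0 A → ∃ a ∈ A, v ∈ cj (a * h) (Z0 A)
  nd : ∀ a ∈ A, ∀ v ∈ Vof A D, ⁅v, a⁆ ∈ Rof A D → ⁅v, a⁆ = 1
  onto : ∀ v ∈ Vof A D, v ∉ Z0 A → ∀ z ∈ Z0 A, ∃ a ∈ A, ∃ r ∈ Rof A D, z = ⁅v, a⁆ * r
  mv : ∀ h ∈ 𝒩(D), h ∉ 𝒩(Z0 A) → ∀ a ∈ A, a ∉ D → h * a * h⁻¹ ∉ 𝒩(Z0 A)
  odd : ∀ h ∈ 𝒩(D), h ∉ 𝒩(Z0 A) → ∀ a ∈ A, a ∉ D → ∀ b ∈ A, b ∉ D →
    ∃ n : ℕ, Odd n ∧ (a * (h * b * h⁻¹)) ^ n ∈ 𝒞(Vof A D)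

/-- A pair of essential subgroups whose modules do not commute. -/
structure Par (A D D' : Subgroup G) (q : ℕ) : Prop where
  l : Loc A D q
  r : Loc A D' q
  out : ¬ Vof A D' ≤ D
  out' : ¬ Vof A D ≤ D'
  sup : ∀ a ∈ A, ∃ v ∈ Vof A D', ∃ d ∈ D, a = v * d
  sup' : ∀ a ∈ A, ∃ v ∈ Vof A D, ∃ d ∈ D', a = v * d
  inf : Vof A D' ⊓ D = Z0 A
  inf' : Vof A D ⊓ D' = Z0 A

/-- Two commuting families of transvections on `V`, with axes `V₁` and `V₂`. -/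
structure Axs (H B V D E V₁ V₂ : Subgroup G) : Prop where
  sc : SC H B
  gen : Kof B H = H
  ea : EA V
  norm : H ≤ 𝒩(V)
  sq : ∀ b ∈ B, b * b ∈ 𝒞(V)
  DB : D ≤ B
  EB : E ≤ B
  cen : B ⊓ 𝒞(V) = D ⊓ E
  c1 : ∀ d ∈ D, d ∉ E → V ⊓ 𝒞[d] = V₁
  c2 : ∀ e ∈ E, e ∉ D → V ⊓ 𝒞[e] = V₂
  c0 : ∀ b ∈ B, b ∉ D → b ∉ E → V ⊓ 𝒞[b] = V₁ ⊓ V₂
  n1 : ¬ V₁ ≤ V₂
  n2 : ¬ V₂ ≤ V₁

/-- The final configuration: `A = U U'` with just one pair. -/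
structure One (A U U' : Subgroup G) (q : ℕ) : Prop where
  min : Min2 A
  par : Par A U U' q
  two : Two A A U U'
  Z : Z0 A = U ⊓ U'
  V : Vof A U = U
  V' : Vof A U' = U'
  der : Z0 A = ⁅U, U'⁆
  c0 : Rof A U ⊓ Rof A U' = ⊥

/-- Field coordinates on `Z / R`, `U / Z` and `A / U`. -/
structure Cd (A U : Subgroup G) {F : Type} [Field F] (x y β : G → F) : Prop where
  two : (2 : F) = 0
  x_mul : ∀ z ∈ Z0 A, ∀ z' ∈ Z0 A, x (z * z') = x z + x z'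
  x_zero : ∀ z ∈ Z0 A, (x z = 0 ↔ z ∈ Rof A U)
  x_surj : ∀ t : F, ∃ z ∈ Z0 A, x z = t
  y_mul : ∀ v ∈ U, ∀ v' ∈ U, y (v * v') = y v + y v'
  y_zero : ∀ v ∈ U, (y v = 0 ↔ v ∈ Z0 A)
  y_surj : ∀ t : F, ∃ v ∈ U, y v = t
  b_mul : ∀ s ∈ A, ∀ s' ∈ A, β (s * s') = β s + β s'
  b_zero : ∀ s ∈ A, (β s = 0 ↔ s ∈ U)
  b_surj : ∀ t : F, ∃ s ∈ A, β s = t
  comm : ∀ s ∈ A, ∀ v ∈ U, x ⁅s, v⁆ = β s * y v

/-- `c` centralizes `A` and an element of `N(U)` that moves `Z0 A`. -/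
def Gd (A U : Subgroup G) (c : G) : Prop :=
  c ∈ 𝒞(A) ∧ ∃ h ∈ 𝒩(U), h ∉ 𝒩(Z0 A) ∧ h * c = c * h

/-- The Sylow subgroup `S` is the central product of `A` and `C_S(A)`. -/
structure Top (S A U U' : Subgroup G) (q : ℕ) : Prop extends One A U U' q where
  syl : IsSylowOf 2 S ⊤
  le : A ≤ S
  nU : 𝒩(A) ≤ 𝒩(U)
  nU' : 𝒩(A) ≤ 𝒩(U')
  dec : ∀ s ∈ S, ∃ a ∈ A, ∃ c ∈ S ⊓ 𝒞(A), s = a * c

/-- `X` is the set of elements of `S` that are good for `U`; it supplements `Z0 A` in `C_S(A)`. -/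
structure Sup (S A U X : Subgroup G) : Prop where
  mem : ∀ c, c ∈ X ↔ c ∈ S ∧ Gd A U c
  dec : ∀ c ∈ S ⊓ 𝒞(A), ∃ z ∈ Z0 A, ∃ d ∈ X, c = z * d
  inf : X ⊓ Z0 A ≤ Rof A U

end Cfsg.Agent.C2
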