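import Cfsg.Agent.C2.Alp

/-! notes/C2.md, section Fr. -/

set_option autoImplicit false
set_option linter.unusedSectionVars false

namespace Cfsg.Agent.C2

open Cfsg Cfsg.Agent.H49 Cfsg.Agent.GOLD Subgroup
open Cfsg.Agent.H82G (pi2 sc_norm syl_pg exists_syl_ge od_eq_one od_zpowers)
open scoped commutatorElement

universe u

variable {G : Type u} [Group G] [Finite G] {A D X Y V W : Subgroup G}

/-- Frattini argument in `N(D)`. -/
theorem fr_Mx (h : SC ⊤ A) (hD : D ≤ A) (hn : A ≤ 𝒩(D)) (hX : X ≤ 𝒩(D)) (hXn : 𝒩(D) ≤ 𝒩(X))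
    (hne : ¬ X ⊓ A ≤ D) : ∀ g ∈ 𝒩(D), ∃ x ∈ X, ∃ m ∈ Mx A D, g = x * m := fun g hg => by
  obtain ⟨T, hT, hA⟩ := exists_syl_ge h.2.1 hn
  obtain ⟨x, hx, h1⟩ := sylowOf_subJ (X := cj g (X ⊓ A)) (hT.inf_normal hX hXn)
    (cj_le_of_mem_norm inf_le_left (hXn hg)) (pi2 (isPGroup_cj.2 (h.2.1.to_le inf_le_right)))
  rw [cj_cj] at h1
  have h2 := mem_norm_of_cj_le (le_inf (h1.trans inf_le_right)
    (alp_cj h hA le_top (syl_pg hT) inf_le_right (mem_top _) (h1.trans inf_le_left)))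
  have h3 := mul_mem (hX hx) hg
  exact ⟨x⁻¹, inv_mem hx, x * g, inf_le_Mx (left_lt_sup.2 hne) (sup_le hD inf_le_right)
    ⟨h3, norm_sup inf_le_left inf_le_right (mem_inf.2 ⟨h3, h2⟩)⟩, (inv_mul_cancel_left _ _).symm⟩

theorem cent_of_odd (hD : IsPGroup 2 D) (hV : V ≤ D) {y : G} (ho : Odd (orderOf y))
    (h1 : y ∈ 𝒞(V)) (h2 : ∀ d ∈ D, y * d * y⁻¹ * d⁻¹ ∈ V) : y ∈ 𝒞(D) := fun d hd => by
  have hv := h2 d hd
  generalize e : y * d * y⁻¹ * d⁻¹ = v at hv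
  have h3 : ∀ n : ℕ, y ^ n * d * (y ^ n)⁻¹ = v ^ n * d := fun n => by
    induction n with
    | zero => simp
    | succ n ih =>
      calc _ = y * (y ^ n * d * (y ^ n)⁻¹) * y⁻¹ := by rw [pow_succ']; group
        _ = y * v ^ n * d * y⁻¹ := by rw [ih]; group
        _ = v ^ n * (y * d * y⁻¹ * d⁻¹) * d := by rw [← h1 _ (pow_mem hv n)]; group
        _ = _ := by rw [e, pow_succ]
  have h4 := h3 (orderOf y)
  rw [pow_orderOf_eq_one, one_mul, inv_one, mul_one, eq_comm, mul_eq_right] at h4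
  rw [od_eq_one (od_zpowers.2 (ho.of_dvd_nat (orderOf_dvd_of_pow_eq_one h4))) hD (hV hv)
    (mem_zpowers v), mul_inv_eq_one, mul_inv_eq_iff_eq_mul] at e
  exact e.symm

theorem odd_split (h : SC ⊤ A) (hA : A ≤ 𝒩(Y)) (hY : Y ≤ 𝒩(D))
    (ho : ∀ y ∈ Y, Odd (orderOf y) → y ∈ 𝒞(D)) :
    ∀ y ∈ Y, ∃ c ∈ Y ⊓ 𝒞(D), ∃ t ∈ Y ⊓ 𝒩(A), y = c * t := fun y hy => by
  obtain ⟨T, hT, hAT⟩ := exists_syl_ge h.2.1 (le_sup_left : A ≤ A ⊔ Y)
  refine (mem_sup_of_norm_left (norm_inf (norm_of_le inf_le_left)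
    (norm_cent (inf_le_left.trans hY)))).1 (le_of_sylowOf_le (fun p hp _ => ?_) hy)
  by_cases h2 : p = 2
  · subst h2
    exact ⟨_, hT.inf_normal le_sup_right (sup_le hA le_normalizer), le_sup_of_le_right
      (le_inf inf_le_right (inf_le_left.trans (sc_norm h hAT le_top (syl_pg hT))))⟩
  · obtain ⟨P, hP⟩ := exists_sylowOf p Y
    refine ⟨P, hP, le_sup_of_le_left fun x hx => ⟨hP.le hx, ho x (hP.le hx) ?_⟩⟩
    exact Nat.not_even_iff_odd.1 fun e => h2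
      (hP.pi 2 Nat.prime_two (e.two_dvd.trans (P.orderOf_dvd_natCard hx))).symm

/-- The first consequence: commutators and squares. -/
theorem Min.min2' (h : Min A) (hg : A ≤ closure {x | x ∈ A ∧ x * x = 1}) : Min2 A := by
  have h1 : ∀ a ∈ A, ∀ b ∈ A, ⁅a, b⁆ ∈ Z0 A := fun a ha b hb => by
    refine (closure_induction (p := fun b _ => b ∈ A ∧ ⁅a, b⁆ ∈ Z0 A) (fun t ht => ⟨ht.1,
      commutator_le_left_of_norm le_normalizer (commutator_mem_commutator ha ht.1),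
      h.cl (commutator_mem_commutator ha ht.1), ?_⟩) ⟨one_mem _, by simp⟩
      (fun x y _ _ hx hy => ⟨mul_mem hx.1 hy.1, ?_⟩) (fun x _ hx => ⟨inv_mem hx.1, ?_⟩) (hg hb)).2
    · rw [← h.comm_mul_right ha ht.1 ht.1, ht.2, commutatorElement_one_right]
    · rw [h.comm_mul_right ha hx.1 hy.1]
      exact mul_mem hx.2 hy.2
    · have := h.comm_mul_right ha hx.1 (inv_mem hx.1)
      rw [mul_inv_cancel, commutatorElement_one_right] at this
      rw [eq_inv_of_mul_eq_one_right this.symm]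
      exact inv_mem hx.2
  refine ⟨h, commutator_le.2 h1, fun a ha => ?_⟩
  refine (closure_induction (p := fun b _ => b ∈ A ∧ b * b ∈ Z0 A)
    (fun t ht => ⟨ht.1, by rw [ht.2]; exact one_mem _⟩) ⟨one_mem _, by simp⟩
    (fun x y _ _ hx hy => ⟨mul_mem hx.1 hy.1, ?_⟩)
    (fun x _ hx => ⟨inv_mem hx.1, mul_inv_rev x x ▸ inv_mem hx.2⟩) (hg ha)).2
  rw [show x * y * (x * y) = x * x * ⁅x⁻¹, y⁆ * (y * y) by simp only [commutatorElement_def]; group]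
  exact mul_mem (mul_mem hx.2 (h1 _ (inv_mem hx.1) _ hy.1)) hy.2

end Cfsg.Agent.C2
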