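import Cfsg.Agent.C2.Tr
import Cfsg.Agent.C2.Fr

/-! The case of one pair: `N(A)` normalizes `U`; trivial action is inner. -/

set_option autoImplicit false
set_option linter.unusedVariables false
set_option linter.unusedSectionVars false

namespace Cfsg.Agent.C2

open Cfsg Cfsg.Agent.H49 Cfsg.Agent.GOLD Subgroup
open Cfsg.Agent.R2 (Two)
open scoped commutatorElement

universe u

variable {G : Type u} [Group G] [Finite G] {A U U' : Subgroup G} {q : ℕ}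

theorem One.e1_UA (o : One A U U' q) : U ≤ A := o.two.A_le

theorem One.e1_ZU (o : One A U U' q) : Z0 A ≤ U := o.Z ▸ inf_le_left

theorem One.e1_RU (o : One A U U' q) : Rof A U ≤ U := (Rof_le A U).trans o.e1_ZU

theorem One.e1_comm (o : One A U U' q) {u v : G} (hu : u ∈ U) (hv : v ∈ U) : u * v = v * u :=
  H71.ea_comm o.two.eaA hu hv

theorem One.e1_cent (o : One A U U' q) : U ≤ 𝒞(U) := abelian_iff.1 o.two.eaA.1

theorem One.e1_mv (o : One A U U' q) : ∃ h ∈ 𝒩(U), h ∉ 𝒩(Z0 A) := by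
  obtain ⟨k, hk, hk'⟩ := o.par.l.exists_mv
  exact ⟨k, C2.K_le o.two.norm_A hk, hk'⟩

/-- `[v,a] ∈ R` with `v ∈ U \ Z` forces `a ∈ U`. -/
theorem One.e1_mem (o : One A U U' q) {v a : G} (hv : v ∈ U) (hv' : v ∉ Z0 A) (ha : a ∈ A)
    (hc : ⁅v, a⁆ ∈ Rof A U) : a ∈ U := by
  have hv1 : v ∈ Vof A U := o.V.symm ▸ hv
  by_contra hn
  exact hv' (o.par.l.ti a ha hn ⟨hv1, mem_cent1.2
    (commutatorElement_eq_one_iff_mul_comm.1 (o.par.l.nd a ha v hv1 hc))⟩)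

theorem One.e1_exists (o : One A U U' q) : ∃ v ∈ U, v ∉ Z0 A := by
  obtain ⟨v, hv, hv'⟩ := SetLike.not_le_iff_exists.1 o.two.nAB
  exact ⟨v, hv, fun e => hv' (o.Z ▸ e : v ∈ U ⊓ U').2⟩

theorem One.e1_comm_Z (o : One A U U' q) {z z' a b : G} (hz : z ∈ Z0 A) (hz' : z' ∈ Z0 A)
    (ha : a ∈ A) (hb : b ∈ A) : ⁅z * a, z' * b⁆ = ⁅a, b⁆ := by
  rw [o.min.toMin.comm_mul_left (Z0_le A hz) ha (mul_mem (Z0_le A hz') hb),
    commutatorElement_eq_one_iff_mul_comm.2 (Z0_comm hz (mul_mem (Z0_le A hz') hb)).symm, one_mul,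
    o.min.toMin.comm_mul_right ha (Z0_le A hz') hb,
    commutatorElement_eq_one_iff_mul_comm.2 (Z0_comm hz' ha), one_mul]

theorem One.normA [IsSimpleGroup G] (o : One A U U' q) : 𝒩(A) ≤ 𝒩(U) := by
  have := ns (H := ⊤) (Y := 𝒩(U)) o.min.sc (Kof_top o.min.toMin.ne) o.two.norm_A
    fun n hn n' hn' h1 h2 => by
      have e1 := (o.two.cj_or hn.2).resolve_left fun e => h1 (mem_norm_iff_cj.2 e)
      have e2 := (o.two.cj_or hn'.2).resolve_left fun e => h2 (mem_norm_iff_cj.2 e)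
      have e3 : cj n U' = U := by
        refine (o.two.symm.cj_or hn.2).resolve_left fun e => o.two.nAB ?_
        exact (cj_injective n (e1.trans e.symm)).le
      rw [mem_norm_iff_cj, cj_mul, e2, e3]
  rwa [top_inf_eq] at this

theorem One.cent_of (o : One A U U' q) {s : G} (hs : s ∈ 𝒩(U)) (h1 : s ∈ 𝒞(Rof A U))
    (h2 : ∀ u ∈ U, s * u * s⁻¹ * u⁻¹ ∈ Rof A U) : s ∈ 𝒞(U) := by
  set Y := CM U (Rof A U) ⊓ 𝒞(Rof A U) with hY
  have hsY : s ∈ Y := ⟨⟨hs, cent_le_norm _ h1, h2⟩, h1⟩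
  have hnY : 𝒩(U) ≤ 𝒩(Y) :=
    norm_inf (norm_CM le_rfl (norm_Rof A U)) (norm_cent (norm_Rof A U))
  have hAY : A ≤ 𝒩(Y) := o.two.norm_A.trans hnY
  have hYU : Y ≤ 𝒩(U) := fun y hy => hy.1.1
  obtain ⟨v, hv, hv'⟩ := o.e1_exists
  have hvA := o.e1_UA hv
  have hsp := odd_split o.min.sc hAY hYU fun y hy ho =>
    cent_of_odd (o.min.toMin.pg.to_le o.e1_UA) o.e1_RU ho hy.2 hy.1.2.2
  have hZ : Y ≤ 𝒞(Z0 A) := by
    intro y hy
    obtain ⟨c, hc, t, ht, rfl⟩ := hsp y hy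
    refine mul_mem (cent_anti o.e1_ZU hc.2) fun z hz => ?_
    obtain ⟨a, ha, r, hr, rfl⟩ := o.par.l.onto v (o.V.symm ▸ hv) hv' z hz
    have e1 : t * r = r * t := (ht.1.2 r hr).symm
    have huA : t * a * t⁻¹ * a⁻¹ ∈ A := mul_mem (conj_mem_of_norm le_rfl ht.2 ha) (inv_mem ha)
    have huY : t * a * t⁻¹ * a⁻¹ ∈ Y := by
      have := mul_mem ht.1 (conj_mem_of_norm hAY ha (inv_mem ht.1))
      rwa [show t * (a * t⁻¹ * a⁻¹) = t * a * t⁻¹ * a⁻¹ by group] at this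
    have huU : t * a * t⁻¹ * a⁻¹ ∈ U := by
      refine o.e1_mem hv hv' huA ?_
      have := inv_mem (huY.1.2.2 v hv)
      rwa [show ∀ w : G, (w * v * w⁻¹ * v⁻¹)⁻¹ = ⁅v, w⁆ from fun w => by
        simp only [commutatorElement_def]; group] at this
    have hr1 := Rof_le A U (ht.1.1.2.2 v hv)
    have e2 : t * ⁅v, a⁆ * t⁻¹ = ⁅v, a⁆ := by
      rw [conjugate_commutatorElement,
        show t * v * t⁻¹ = (t * v * t⁻¹ * v⁻¹) * v by group,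
        show t * a * t⁻¹ = 1 * ((t * a * t⁻¹ * a⁻¹) * a) by group,
        o.e1_comm_Z hr1 (one_mem _) hvA (mul_mem huA ha), o.min.toMin.comm_mul_right hvA huA ha,
        commutatorElement_eq_one_iff_mul_comm.2 (o.e1_comm hv huU), one_mul]
    calc ⁅v, a⁆ * r * t = t * ⁅v, a⁆ * t⁻¹ * (t * r) := by rw [e2, e1, mul_assoc]
      _ = _ := by group
  obtain ⟨h, hh, hh'⟩ := o.e1_mv
  intro u hu
  obtain ⟨z, hz, z', hz', rfl⟩ := o.par.l.prod h hh hh' u (o.V.symm ▸ hu)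
  have e1 : z * s = s * z := hZ hsY z hz
  have e2 : z' * s = s * z' := by
    have := hZ (conj_mem_of_norm' hnY hh hsY) _ (mem_cj.1 hz')
    calc z' * s = h * (h⁻¹ * z' * h * (h⁻¹ * s * h)) * h⁻¹ := by group
      _ = s * z' := by rw [this]; group
  rw [mul_assoc, e2, ← mul_assoc, e1, mul_assoc]

theorem One.e1_centZ (o : One A U U' q) {s : G}
    (h1 : ∀ u ∈ U, s * u * s⁻¹ * u⁻¹ ∈ Z0 A) (h2 : ∀ u ∈ U', s * u * s⁻¹ * u⁻¹ ∈ Z0 A) :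
    s ∈ 𝒞(Z0 A) := by
  rw [← le_cent1_iff, o.der, commutator_le]
  intro u hu u' hu'
  rw [mem_cent1]
  have : s * ⁅u, u'⁆ * s⁻¹ = ⁅u, u'⁆ := by
    rw [conjugate_commutatorElement, show s * u * s⁻¹ = (s * u * s⁻¹ * u⁻¹) * u by group,
      show s * u' * s⁻¹ = (s * u' * s⁻¹ * u'⁻¹) * u' by group,
      o.e1_comm_Z (h1 u hu) (h2 u' hu') (o.e1_UA hu) (o.two.B_le hu')]
  calc ⁅u, u'⁆ * s = s * ⁅u, u'⁆ * s⁻¹ * s := by rw [this]
    _ = _ := by group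

theorem One.e1_half (o : One A U U' q) {s : G} (hs : s ∈ 𝒩(U)) (hZ : s ∈ 𝒞(Z0 A))
    (h1 : ∀ u ∈ U, s * u * s⁻¹ * u⁻¹ ∈ Z0 A) : ∃ u' ∈ U', u' * s ∈ 𝒞(U) := by
  obtain ⟨h, hh, hh'⟩ := o.e1_mv
  have hZ' : cj h (Z0 A) ≤ U := cj_le_of_mem_norm o.e1_ZU hh
  obtain ⟨a, ha, e⟩ := o.par.l.tr (s * h) (mul_mem hs hh)
    (fun e => hh' ((mul_mem_cancel_left (cent_le_norm _ hZ)).1 e)) h hh hh'
  obtain ⟨u, hu, u', hu', rfl⟩ := o.two.exists_mul ha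
  have hu'A := o.two.B_le hu'
  have e2 : u' * s ∈ 𝒩(cj h (Z0 A)) := by
    have h3 : u * u' * s ∈ 𝒩(cj h (Z0 A)) := by
      rw [mem_norm_iff_cj, cj_mul, ← cj_mul s h, e]
    have h4 : u ∈ 𝒩(cj h (Z0 A)) := cent_le_norm _ (cent_anti hZ' (o.e1_cent hu))
    rw [mul_assoc] at h3
    exact (mul_mem_cancel_left h4).1 h3
  have e3 : u' * s ∈ 𝒞(Z0 A) := mul_mem (cent_Z0 A hu'A) hZ
  refine ⟨u', hu', o.cent_of (mul_mem (o.two.norm_A hu'A) hs) (cent_anti (Rof_le A U) e3)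
    fun w hw => ?_⟩
  obtain ⟨z, hz, z', hz', rfl⟩ := o.par.l.prod h hh hh' w (o.V.symm ▸ hw)
  have hr : u' * s * z' * (u' * s)⁻¹ * z'⁻¹ ∈ Rof A U := by
    rw [← o.par.l.inf h hh hh']
    refine mem_inf.2 ⟨?_, mul_mem (conj_mem_of_norm le_rfl e2 hz') (inv_mem hz')⟩
    have := mul_mem (conj_mem_of_norm (le_normalizer.trans (norm_Z0 A)) hu'A (h1 z' (hZ' hz')))
      (o.min.comm_mem hu'A (o.e1_UA (hZ' hz')))
    rwa [show u' * (s * z' * s⁻¹ * z'⁻¹) * u'⁻¹ * ⁅u', z'⁆ = u' * s * z' * (u' * s)⁻¹ * z'⁻¹ by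
      simp only [commutatorElement_def]; group] at this
  have e4 : z * (u' * s) = u' * s * z := e3 z hz
  have e5 := Z0_fix (Rof_le A U hr) (Z0_le A hz)
  rw [show u' * s * (z * z') * (u' * s)⁻¹ * (z * z')⁻¹ =
    (u' * s * z) * z' * (u' * s)⁻¹ * z'⁻¹ * z⁻¹ by group, ← e4,
    show z * (u' * s) * z' * (u' * s)⁻¹ * z'⁻¹ * z⁻¹ =
      z * (u' * s * z' * (u' * s)⁻¹ * z'⁻¹) * z⁻¹ by group, e5]
  exact hr

theorem One.triv (o : One A U U' q) {s : G} (hs : s ∈ 𝒩(U)) (hs' : s ∈ 𝒩(U'))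
    (h1 : ∀ u ∈ U, s * u * s⁻¹ * u⁻¹ ∈ Z0 A) (h2 : ∀ u ∈ U', s * u * s⁻¹ * u⁻¹ ∈ Z0 A) :
    ∃ a ∈ A, ∃ c ∈ 𝒞(A), s = a * c := by
  have hZ := o.e1_centZ h1 h2
  obtain ⟨u', hu', c1⟩ := o.e1_half hs hZ h1
  obtain ⟨u, hu, c2⟩ := o.symm.e1_half hs' hZ h2
  have huA := o.e1_UA hu
  have hu'A := o.two.B_le hu'
  refine ⟨(u * u')⁻¹, inv_mem (mul_mem huA hu'A), u * u' * s, ?_, by group⟩
  rw [← o.two.sup, cent_sup]
  refine ⟨?_, ?_⟩
  · rw [mul_assoc]; exact mul_mem (o.e1_cent hu) c1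
  · have := mul_mem (mul_mem (cent_anti o.two.B_le (Z0_cent A (o.min.comm_mem huA hu'A)))
      (o.symm.e1_cent hu')) c2
    rwa [show ⁅u, u'⁆ * u' * (u * s) = u * u' * s by
      simp only [commutatorElement_def]; group] at this

theorem One.e1_two (o : One A U U' 2) {s : G} (hs : s ∈ 𝒩(U)) (hZ : s ∈ 𝒩(Z0 A)) {u : G}
    (hu : u ∈ U) : s * u * s⁻¹ * u⁻¹ ∈ Z0 A := by
  have h2 : ((Z0 A).subgroupOf U).index = 2 := by
    have := o.par.l.idxV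
    rwa [o.V] at this
  have hm := conj_mem_of_norm le_rfl hs hu
  have := (mul_mem_iff_of_index_two h2 (a := ⟨_, hm⟩) (b := ⟨_, inv_mem hu⟩)).2 (by
    simp only [mem_subgroupOf, inv_mem_iff]
    exact (mem_normalizer_iff.1 hZ u).symm)
  exact this

theorem One.triv_two [IsSimpleGroup G] (o : One A U U' 2) {s : G} (hs : s ∈ 𝒩(A)) :
    ∃ a ∈ A, ∃ c ∈ 𝒞(A), s = a * c :=
  o.triv (o.normA hs) (o.symm.normA hs) (fun _ hu => o.e1_two (o.normA hs) (norm_Z0 A hs) hu)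
    fun _ hu => o.symm.e1_two (o.symm.normA hs) (norm_Z0 A hs) hu

theorem One.e1_pow (o : One A U U' q) : ∃ n : ℕ, n ≠ 0 ∧ q = 2 ^ n := by
  obtain ⟨n, hn⟩ := (isPiNat_singleton Nat.prime_two (relIndex_pos U A).ne').1
    (o.two.syl.pi.relIndex U)
  rw [o.par.l.idx] at hn
  refine ⟨n, ?_, hn⟩
  rintro rfl
  have := o.par.l.two
  omega

theorem One.cases (o : One A U U' q) : q = 2 ∨ 4 ≤ q := by
  obtain ⟨n, h0, rfl⟩ := o.e1_pow
  rcases n with _ | _ | n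
  · exact absurd rfl h0
  · exact Or.inl rfl
  · right
    have : 0 < 2 ^ n := by positivity
    rw [pow_succ, pow_succ]
    omega

theorem One.cent_le (o : One A U U' q) : A ⊓ 𝒞(A) ≤ Z0 A := by
  rw [o.Z]
  exact le_inf (o.two.cent_A ▸ inf_le_inf_left _ (cent_anti o.e1_UA))
    (o.two.symm.cent_A ▸ inf_le_inf_left _ (cent_anti o.two.B_le))

end Cfsg.Agent.C2
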