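import Cfsg.Agent.C2.Basic

/-! The centralizer of `U` in the Sylow subgroup, and an element of odd order that moves `Z0 A`. -/

set_option autoImplicit false
set_option linter.unusedVariables false
set_option linter.unusedSectionVars false

namespace Cfsg.Agent.C2

open Cfsg Cfsg.Agent.H49 Cfsg.Agent.GOLD Subgroup
open Cfsg.Agent.R2 (Two)
open scoped commutatorElement

universe u

variable {G : Type u} [Group G] [Finite G] {S A U U' : Subgroup G} {q : ℕ}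

theorem Top.e3_pg (t : Top S A U U' q) : IsPGroup 2 S := t.syl.pi.isPGroup Nat.prime_two

theorem Top.e3_normA (t : Top S A U U' q) : S ≤ 𝒩(A) := fun s hs =>
  t.min.sc.le_norm t.le le_top t.e3_pg ⟨mem_top _, le_normalizer hs⟩

theorem Top.e3_normU (t : Top S A U U' q) : S ≤ 𝒩(U) := t.e3_normA.trans t.nU

theorem Top.e3_syl (t : Top S A U U' q) : IsSylowOf 2 (S ⊓ 𝒞(U)) 𝒞(U) :=
  (t.syl.sub t.e3_normU le_top).inf_normal (cent_le_norm U) (norm_cent le_rfl)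

theorem Top.e3_centZ (t : Top S A U U' q) : 𝒞(U) ≤ 𝒩(Z0 A) :=
  norm_of_cent (cent_anti t.par.l.ess.Z0_le)

theorem Top.frat (t : Top S A U U' q) : ¬ 𝒩(U) ⊓ 𝒩(S ⊓ 𝒞(U)) ≤ 𝒩(Z0 A) := fun h => by
  refine t.par.l.out fun g hg => ?_
  obtain ⟨c, hc, n, hn, e⟩ := (frattini_arg (cent_le_norm U) (norm_cent le_rfl) t.e3_syl).2.2 g hg
  rw [t.par.l.mx]
  exact ⟨hg, e ▸ mul_mem (t.e3_centZ hc) (h hn)⟩

theorem Top.cenU (t : Top S A U U' q) {d : G} (hd : d ∈ S ⊓ 𝒞(U)) :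
    ∃ u ∈ U, ∃ c ∈ S ⊓ 𝒞(A), d = u * c := by
  obtain ⟨a, ha, c, hc, rfl⟩ := t.dec d hd.1
  refine ⟨a, ?_, c, hc, rfl⟩
  have h1 := t.par.l.cenV
  rw [t.V] at h1
  rw [← h1]
  exact ⟨ha, (mul_mem_cancel_right (cent_anti t.par.l.ess.le hc.2)).1 hd.2⟩

theorem Top.e3_normD (t : Top S A U U' q) : S ≤ 𝒩(S ⊓ 𝒞(U)) :=
  norm_inf le_normalizer (norm_cent t.e3_normU)

theorem Top.K_le (t : Top S A U U' q) : Kof A (𝒩(U) ⊓ 𝒩(S ⊓ 𝒞(U))) ≤ CM (S ⊓ 𝒞(U)) U := by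
  refine Kof_le (fun a ha => ⟨t.e3_normD (t.le ha), t.e3_normU (t.le ha), fun d hd => ?_⟩)
    (norm_CM inf_le_right inf_le_left)
  obtain ⟨u, hu, c, hc, rfl⟩ := t.cenU hd
  have e : a * c = c * a := hc.2 a ha
  have : a * (u * c) * a⁻¹ * (u * c)⁻¹ = ⁅a, u⁆ := by
    rw [commutatorElement_def]
    calc _ = a * u * (a⁻¹ * (a * c) * a⁻¹ * c⁻¹) * u⁻¹ := by group
      _ = _ := by rw [e]; group
  rw [this]
  exact t.par.l.ess.Z0_le (t.min.comm_mem ha (t.par.l.ess.le hu))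

omit [Finite G] in
theorem e3_mem_of_pow {Y : Subgroup G} {x : G} {m n : ℕ} (h : m.Coprime n) (h1 : x ^ m ∈ Y)
    (h2 : x ^ n ∈ Y) : x ∈ Y := by
  have e : x = (x ^ m) ^ (m.gcdA n) * (x ^ n) ^ (m.gcdB n) := by
    rw [← zpow_natCast, ← zpow_natCast, ← zpow_mul, ← zpow_mul, ← zpow_add, ← Nat.gcd_eq_gcd_ab, h]
    simp
  rw [e]
  exact mul_mem (zpow_mem h1 _) (zpow_mem h2 _)

theorem Top.exists_rho (t : Top S A U U' q) : ∃ ρ ∈ Kof A 𝒩(U), ρ ∉ 𝒩(Z0 A) ∧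
    U ⊓ 𝒞[ρ] ≤ Rof A U ∧
    ∀ c ∈ S ⊓ 𝒞(A), ∃ z ∈ Z0 A, ∃ d ∈ S ⊓ 𝒞(A) ⊓ 𝒞[ρ], c = z * d := by
  have l := t.par.l
  obtain ⟨h, hh, hZ⟩ := SetLike.not_le_iff_exists.1 t.frat
  obtain ⟨a, ha', haU⟩ := SetLike.not_le_iff_exists.1 t.two.nBA
  have ha : a ∈ A := t.par.r.ess.le ha'
  have a2 : a * a = 1 := by rw [← pow_two]; exact t.two.eaB.2 a ha'
  have ai : a⁻¹ = a := inv_eq_of_mul_eq_one_right a2
  have aZ : a ∈ 𝒩(Z0 A) := norm_Z0 A (le_normalizer ha)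
  obtain ⟨n, hn, hρn⟩ := l.odd h hh.1 hZ a ha haU a ha haU
  rw [t.V] at hρn
  set ρ0 := a * (h * a * h⁻¹) with hρ0
  obtain ⟨k, m, hm, e⟩ := Nat.exists_eq_two_pow_mul_odd (orderOf_pos ρ0).ne'
  have hodd : Odd (orderOf (ρ0 ^ 2 ^ k)) :=
    hm.of_dvd_nat (orderOf_dvd_of_pow_eq_one (by rw [← pow_mul, ← e, pow_orderOf_eq_one]))
  have hK : ρ0 ^ 2 ^ k ∈ Kof A (𝒩(U) ⊓ 𝒩(S ⊓ 𝒞(U))) :=
    pow_mem (mul_mem (le_Kof _ _ ha) (cj_le_Kof hh (conj_mem_cj.2 ha))) _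
  have hinv : a * ρ0 ^ 2 ^ k * a⁻¹ = (ρ0 ^ 2 ^ k)⁻¹ := by
    rw [← conj_pow, ← inv_pow]
    congr 1
    rw [hρ0, ai]
    simp only [mul_inv_rev, inv_inv, ai, ← mul_assoc, a2, one_mul]
  have hnZ : ρ0 ^ 2 ^ k ∉ 𝒩(Z0 A) := fun h1 => l.mv h hh.1 hZ a ha haU
    ((mul_mem_cancel_left aZ).1 (e3_mem_of_pow (Nat.Coprime.pow_left k hn.coprime_two_left) h1
      (t.e3_centZ hρn)))
  generalize ρ0 ^ 2 ^ k = ρ at hodd hK hinv hnZ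
  have hCM := t.K_le hK
  have aP : a ∈ 𝒩(zpowers ρ) := by rw [mem_norm_iff_cj, cj_zpowers, hinv, zpowers_inv]
  have aC : a ∈ 𝒩(𝒞(zpowers ρ)) := norm_cent (A := zpowers a) (zpowers_le.2 aP) (mem_zpowers a)
  have zR : ∀ z ∈ Z0 A, z ∈ 𝒞[ρ] → z ∈ Rof A U := fun z hz hc => by
    rw [← l.inf ρ hCM.2.1 hnZ]
    refine ⟨hz, mem_cj'.2 ⟨z, hz, ?_⟩⟩
    rw [← mem_cent1.1 hc, mul_inv_cancel_right]
  have ti : ∀ u ∈ U, a * u * a⁻¹ = u → u ∈ Z0 A := fun u hu e =>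
    l.ti a ha haU ⟨t.V.symm ▸ hu, mem_cent1.2 (mul_inv_eq_iff_eq_mul.1 e).symm⟩
  refine ⟨ρ, Kof_mono le_rfl inf_le_left hK, hnZ, fun u hu => ?_, fun c hc => ?_⟩
  · refine zR u (ti u hu.1 ?_) hu.2
    have h1 : ⁅u, a⁆ ∈ 𝒞[ρ] := by
      rw [commutatorElement_def, mul_assoc, mul_assoc, ← mul_assoc a, ← cent_zpowers]
      have h2 : u ∈ 𝒞(zpowers ρ) := by rw [cent_zpowers]; exact hu.2
      exact mul_mem h2 (conj_mem_of_norm le_rfl aC (inv_mem h2))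
    have h2 := l.nd a ha u (t.V.symm ▸ hu.1) (zR _ (t.min.comm_mem (l.ess.le hu.1) ha) h1)
    rw [← (commutatorElement_eq_one_iff_mul_comm.1 h2), mul_inv_cancel_right]
  · have : Fact (Nat.Prime 2) := ⟨Nat.prime_two⟩
    have cop : ∀ X, X ≤ S → (Nat.card (zpowers ρ)).Coprime (Nat.card X) := fun X hX => by
      obtain ⟨j, hj⟩ := IsPGroup.iff_card.1 (t.e3_pg.to_le hX)
      rw [hj, Nat.card_zpowers]
      exact Nat.Coprime.pow_right _ hodd.coprime_two_right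
    have sol : Group.IsSolvable (zpowers ρ) := Group.isSolvable_of_comm fun x y => mul_comm' x y
    have nD : zpowers ρ ≤ 𝒩(S ⊓ 𝒞(U)) := zpowers_le.2 hCM.1
    have WU : ⁅S ⊓ 𝒞(U), zpowers ρ⁆ ≤ U := commutator_le.2 fun d hd p hp => by
      rw [← commutatorElement_inv]
      exact inv_mem ((zpowers_le.2 hCM hp).2.2 d hd)
    have dp := coprime_abelian_dp (abelian_of_le t.two.eaA.1 WU) (le_norm_commutator_right _ _)
      (cop _ (WU.trans (l.ess.le.trans t.le)))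
    rw [coprime_comm_comm nD (cop _ inf_le_left) (Or.inl sol)] at dp
    obtain ⟨w, hw, d, hd, e⟩ := (coprime_isProd_comm_cent nD (cop _ inf_le_left) (Or.inl sol)).2.2 c
      ⟨hc.1, cent_anti l.ess.le hc.2⟩
    have aW : a ∈ 𝒩(⁅S ⊓ 𝒞(U), zpowers ρ⁆) := norm_commutator (A := zpowers a)
      (zpowers_le.2 (t.e3_normD (t.le ha))) (zpowers_le.2 aP) (mem_zpowers a)
    have e1 : w⁻¹ * (a * w * a⁻¹) = d * (a * d⁻¹ * a⁻¹) := by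
      have e2 : a * (w * d) = w * d * a := e ▸ hc.2 a ha
      calc _ = w⁻¹ * (a * (w * d)) * d⁻¹ * a⁻¹ := by group
        _ = _ := by rw [e2]; group
    have m1 := mul_mem (inv_mem hw) (conj_mem_of_norm le_rfl aW hw)
    have m2 : w⁻¹ * (a * w * a⁻¹) ∈ 𝒞(zpowers ρ) :=
      e1 ▸ mul_mem hd.2 (conj_mem_of_norm le_rfl aC (inv_mem hd.2))
    have m3 : w⁻¹ * (a * w * a⁻¹) ∈ (⊥ : Subgroup G) := dp.2.1 ▸ ⟨⟨m1, m2⟩, m1⟩
    have wZ := ti w (WU hw) (inv_mul_eq_one.1 (mem_bot.1 m3)).symm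
    refine ⟨w, wZ, d, ⟨⟨hd.1.1, ?_⟩, cent_zpowers ρ ▸ hd.2⟩, e⟩
    exact (mul_mem_cancel_left (Z0_cent A wZ)).1 (e ▸ hc.2)

end Cfsg.Agent.C2
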