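import Cfsg.Agent.C2.E3
import Cfsg.Agent.H3.Transfer2

/-! Transfer in `C(U)` and the supplement `X`. -/

set_option autoImplicit false
set_option linter.unusedVariables false
set_option linter.unusedSectionVars false

namespace Cfsg.Agent.C2

open Cfsg Cfsg.Agent.H49 Cfsg.Agent.GOLD Subgroup
open Cfsg.Agent.R2 (Two)
open scoped commutatorElement

universe u

variable {G : Type u} [Group G] [Finite G] {S A U U' : Subgroup G} {q : ℕ}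

theorem E3b.tr {P E : Subgroup G} (h : IsSylowOf 2 P E) {u : G} (h1 : u ∈ P) (h2 : u ∈ 𝒞(E))
    (h3 : u ∈ ⁅E, E⁆) : u ∈ ⁅P, P⁆ := by
  obtain ⟨Q, rfl⟩ := exists_sylow_of Nat.prime_two h
  obtain ⟨u, h1, rfl⟩ := h1
  rw [← map_subtype_commutator] at h3
  rw [← map_commutator]
  exact mem_map_of_mem _ (H3.center_inf_commutator_inf_sylow_le Q
    ⟨⟨mem_center_iff.2 fun g => Subtype.ext (h2 g g.2), (mem_map_iff_mem E.subtype_injective).1 h3⟩, h1⟩)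

theorem E3b.cm {x d y : G} (h1 : Commute x d) (h2 : Commute x y) : ⁅x * d, y⁆ = ⁅d, y⁆ := by
  rw [commutatorElement_mul_left_eq_conj_mul, commutatorElement_eq_one_iff_commute.2 h2, mul_one,
    commutatorElement_def, (((h1.mul_right h2).mul_right h1.inv_right).mul_right h2.inv_right).eq,
    mul_inv_cancel_right]

theorem E3b.SA (t : Top S A U U' q) : S ≤ 𝒩(A) := fun _ hs =>
  t.min.sc.le_norm t.le le_top (H82G.syl_pg t.syl) ⟨trivial, le_normalizer hs⟩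

theorem Top.nf (t : Top S A U U' q) : S ⊓ 𝒞(U) ⊓ ⁅𝒞(U), 𝒞(U)⁆ ≤ 𝒞(A) := by
  have l := t.par.l
  have UA := l.ess.le
  have UU : U ≤ 𝒞(U) := abelian_iff.1 t.two.eaA.1
  have ZU := l.ess.Z0_le
  obtain ⟨ρ, -, -, h1, h2⟩ := t.exists_rho
  have SU := (E3b.SA t).trans t.nU
  have AU : A ≤ 𝒩(U) := t.le.trans SU
  have k : ∀ u ∈ U, u ∈ ⁅𝒞(U), 𝒞(U)⁆ → u ∈ Rof A U := fun u hu hu' => h1 ⟨hu, commutator_le.2 (fun a ha b hb => by
    obtain ⟨v, hv, c, hc, rfl⟩ := t.cenU ha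
    obtain ⟨z, hz, d, hd, rfl⟩ := h2 c hc
    obtain ⟨v', hv', c', hc', rfl⟩ := t.cenU hb
    obtain ⟨z', hz', d', hd', rfl⟩ := h2 c' hc'
    have e1 : Commute (v * z) (v' * (z' * d')) := hb.2 _ (mul_mem hv (ZU hz))
    have e2 := UA (mul_mem hv' (ZU hz'))
    rw [← mul_assoc, E3b.cm (hd.1.2 _ (UA (mul_mem hv (ZU hz)))) e1, ← commutatorElement_inv, ← mul_assoc,
      E3b.cm (hd'.1.2 _ e2) (hd.1.2 _ e2)]
    exact inv_mem (der_le (commutator_mem_commutator hd'.2 hd.2))) (E3b.tr ((t.syl.sub SU le_top).inf_normal (cent_le_norm U) (norm_cent le_rfl))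
      ⟨t.le (UA hu), UU hu⟩ (cent_symm le_rfl hu) hu')⟩
  intro φ hφ a ha
  obtain ⟨u, hu, c, hc, rfl⟩ := t.cenU hφ.1
  have e : ⁅u * c, a⁆ = ⁅u, a⁆ := by
    rw [commutatorElement_mul_left_eq_conj_mul, commutatorElement_eq_one_iff_mul_comm.2 (hc.2 a ha).symm]
    simp
  refine (commutatorElement_eq_one_iff_mul_comm.1 (e.trans (l.nd a ha u (t.V.ge hu) (k _ ?_ ?_)))).symm
  · exact commutator_le_left_of_norm AU (commutator_mem_commutator hu ha)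
  · exact e ▸ commutator_le_left_of_norm (norm_commutator (norm_cent AU) (norm_cent AU))
      (commutator_mem_commutator hφ.2 ha)

theorem Top.exists_sup (t : Top S A U U' q) : ∃ X, Sup S A U X := by
  have l := t.par.l
  have UA := l.ess.le
  have UU : U ≤ 𝒞(U) := abelian_iff.1 t.two.eaA.1
  have ZU := l.ess.Z0_le
  have CA := cent_anti UA
  have AU : A ≤ 𝒩(U) := t.le.trans ((E3b.SA t).trans t.nU)
  obtain ⟨ρ, hρ, hn, h1, h2⟩ := t.exists_rho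
  have ρU := C2.K_le AU hρ
  refine ⟨S ⊓ 𝒞(A) ⊓ 𝒞[ρ], fun c => ⟨fun h => ⟨h.1.1, h.1.2, ρ, ρU, hn, (mem_cent1.1 h.2).symm⟩, ?_⟩, h2,
    fun x hx => h1 ⟨ZU hx.2, hx.1.2⟩⟩
  rintro ⟨cS, cA, h, hU, hZ, hc⟩
  obtain ⟨z, hz, d, hd, rfl⟩ := h2 c ⟨cS, cA⟩
  refine ⟨⟨cS, cA⟩, mul_mem (mem_cent1.2 (K_cent_Rof A U hρ z ?_)) hd.2⟩
  obtain ⟨a, ha, e⟩ := l.tr h hU hZ ρ ρU hn
  obtain ⟨e', he, m, hm, e1⟩ := l.fr (ρ⁻¹ * (a * h)) (mul_mem (inv_mem ρU) (mul_mem (AU ha) hU))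
    (mem_norm_iff_cj.2 (by rw [cj_mul, cj_mul, e, cj_inv_cj]))
  obtain ⟨y, hy, e2⟩ := sylowOf_subJ ((t.syl.sub (E3b.SA t) le_top).inf_normal (cent_le_norm A) (norm_cent le_rfl))
    (X := cj m (S ⊓ 𝒞(A))) (cj_le_of_mem_norm inf_le_right (norm_cent le_rfl hm.2))
    (H82G.pi2 (isPGroup_cj.2 ((H82G.syl_pg t.syl).to_le inf_le_left)))
  have h3 := mem_inf.1 (e2 (conj_mem_cj.2 (conj_mem_cj.2 (show z * d ∈ S ⊓ 𝒞(A) from ⟨cS, cA⟩))))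
  have hd' := mem_inf.1 (mem_inf.1 hd).1
  have h4 : ρ⁻¹ * z * ρ ∈ U := conj_mem_of_norm' le_rfl ρU (ZU hz)
  have e3 : ρ⁻¹ * z * ρ * d = e' * (m * (z * d) * m⁻¹) * e'⁻¹ := by
    calc _ = ρ⁻¹ * (z * d) * ρ := by rw [mul_assoc _ ρ, ← mem_cent1.1 hd.2]; group
      _ = ρ⁻¹ * (a * h) * (z * d) * (ρ⁻¹ * (a * h))⁻¹ := by
        rw [mul_assoc ρ⁻¹ (a * h), mul_assoc a, hc, ← mul_assoc a, cA a ha]; group
      _ = _ := by rw [e1]; group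
  generalize m * (z * d) * m⁻¹ = w at h3 e3
  have h5 : ρ⁻¹ * z * ρ * d * (y * w * y⁻¹)⁻¹ ∈ 𝒞(A) := t.nf (mem_inf.2 ⟨mul_mem (mul_mem ⟨t.le (UA h4), UU h4⟩
    ⟨hd.1.1, CA hd.1.2⟩) (inv_mem (mem_inf.2 ⟨h3.1, CA h3.2⟩)), by
      convert commutator_mem_commutator (mul_mem he (inv_mem (CA hy))) (CA h3.2) using 1
      rw [e3, commutatorElement_def]; group⟩)
  rw [mul_mem_cancel_right (inv_mem h3.2), mul_mem_cancel_right hd'.2] at h5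
  exact (l.inf ρ ρU hn).le ⟨hz, mem_cj.2 (l.ess.V_inf.le ⟨t.V.ge h4, h5⟩)⟩

end Cfsg.Agent.C2
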