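import Cfsg.Agent.C2.Se

/-! The rank one structure of `N(D)`: the conjugates of `Z0 A` form `q + 1` points. -/

set_option autoImplicit false
set_option linter.unusedVariables false
set_option linter.unusedSectionVars false

namespace Cfsg.Agent.C2

open Cfsg Cfsg.Agent.H49 Cfsg.Agent.GOLD Subgroup
open Cfsg.Agent.R2 (Two)
open scoped commutatorElement

universe u

variable {G : Type u} [Group G] [Finite G] {A D : Subgroup G} {q : ℕ}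

theorem TI.loc_mx (t : TI A D q) (h : Min2 A) : Mx A D = 𝒩(D) ⊓ 𝒩(Z0 A) := by
  have e := t.toEss
  refine le_antisymm (Mx_le_of ?_ fun D₁ h1 h2 => ?_) fun g hg => ?_
  · exact le_inf (cent_le_norm D) ((cent_anti e.Z0_le).trans (cent_le_norm _))
  · obtain ⟨a, ha, ha'⟩ := SetLike.exists_of_lt h1
    have hz : Vof A D ⊓ 𝒞(D₁) = Z0 A :=
      le_antisymm ((inf_le_inf_left _ (cent_le_cent1 ha)).trans (t.ti a (h2 ha) ha'))
        (le_inf (Z0_le_Vof A D) ((Z0_cent A).trans (cent_anti h2)))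
    refine le_inf inf_le_left ?_
    rw [← hz]
    exact norm_inf (inf_le_left.trans (norm_Vof A D)) (norm_cent inf_le_right)
  · obtain ⟨c, hc, n, hn, rfl⟩ := e.fr h hg.1 hg.2
    exact mul_mem (cent_le_Mx A D hc) (e.normA_le hn)

theorem TI.loc_nm (t : TI A D q) (h : Min2 A) {g : G} (hg' : g ∉ 𝒩(Z0 A)) : g ∉ Mx A D :=
  fun hm => hg' ((t.loc_mx h ▸ hm : g ∈ 𝒩(D) ⊓ 𝒩(Z0 A)).2)

theorem loc_exists {g : G} {Z : Subgroup G} (hg' : g ∉ 𝒩(Z)) : ∃ v ∈ cj g Z, v ∉ Z :=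
  SetLike.not_le_iff_exists.1 fun e => hg' (mem_norm_of_cj_le e)

/-- A commutator `[v,a]` with `v` in a second point lies in that point only if trivial. -/
theorem TI.loc_comm (t : TI A D q) (h : Min2 A) {g a v : G} (hg : g ∈ 𝒩(D)) (hg' : g ∉ 𝒩(Z0 A))
    (ha : a ∈ A) (hv : v ∈ cj g (Z0 A)) (hc : ⁅v, a⁆ ∈ cj g (Z0 A)) : ⁅v, a⁆ = 1 := by
  have h1 : a * v * a⁻¹ ∈ cj g (Z0 A) := by
    have := inv_mem (mul_mem (inv_mem hv) hc)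
    rwa [show (v⁻¹ * ⁅v, a⁆)⁻¹ = a * v * a⁻¹ by simp only [commutatorElement_def]; group] at this
  have h2 := t.toEss.fix_of_mem h hg (t.loc_nm h hg') ha hv h1
  rw [commutatorElement_eq_one_iff_mul_comm]
  calc v * a = a * v * a⁻¹ * a := by rw [h2]
    _ = a * v := by group

theorem TI.loc_mem (t : TI A D q) {a v : G} (ha : a ∈ A) (hv : v ∈ Vof A D) (hv' : v ∉ Z0 A)
    (hc : ⁅v, a⁆ = 1) : a ∈ D := by
  by_contra hn
  exact hv' (t.ti a ha hn ⟨hv, mem_cent1.2 (commutatorElement_eq_one_iff_mul_comm.1 hc)⟩)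

theorem Ess.loc_comm_one (e : Ess A D) {d v : G} (hd : d ∈ D) (hv : v ∈ Vof A D) : ⁅v, d⁆ = 1 :=
  commutatorElement_eq_one_iff_mul_comm.2 (e.V_cent hd v hv)

theorem Min2.loc_comm_Z (h : Min2 A) {z v a : G} (hz : z ∈ Z0 A) (hv : v ∈ A) (ha : a ∈ A) :
    ⁅z * v, a⁆ = ⁅v, a⁆ := by
  rw [h.toMin.comm_mul_left (Z0_le A hz) hv ha,
    commutatorElement_eq_one_iff_mul_comm.2 (Z0_comm hz ha).symm, one_mul]

/-- The homomorphism `a ↦ [v,a]`. -/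
def Min.locPsi (h : Min A) {v : G} (hv : v ∈ A) : A →* G where
  toFun a := ⁅v, (a : G)⁆
  map_one' := by simp
  map_mul' a b := h.comm_mul_right hv a.2 b.2

theorem TI.loc_core (t : TI A D q) (h : Min2 A) {g v : G} (hg : g ∈ 𝒩(D)) (hg' : g ∉ 𝒩(Z0 A))
    (hv : v ∈ cj g (Z0 A)) (hv' : v ∉ Z0 A) :
    (cj g (Z0 A)).relIndex (Z0 A) = q ∧
      ∀ w ∈ Vof A D, ∃ a ∈ A, ∃ z' ∈ cj g (Z0 A), w = ⁅v, a⁆ * z' := by
  have e := t.toEss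
  have hvV : v ∈ Vof A D := cj_le_Vof hg hv
  have hvA : v ∈ A := e.V_le_A hvV
  set ψ := h.toMin.locPsi hvA with hψ
  have hP : ψ.range ≤ Z0 A := by
    rintro _ ⟨a, rfl⟩
    exact h.comm_mem hvA a.2
  have hker : ψ.ker = D.subgroupOf A := by
    ext a
    rw [MonoidHom.mem_ker, mem_subgroupOf]
    exact ⟨fun hc => t.loc_mem a.2 hvV hv' hc, fun hd => e.loc_comm_one hd hvV⟩
  have hcard : Nat.card ψ.range = q := by
    rw [← t.idx, relIndex, ← hker, index_ker]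
  have hdis : cj g (Z0 A) ⊓ ψ.range = ⊥ := by
    rw [eq_bot_iff]
    rintro _ ⟨h1, a, rfl⟩
    exact mem_bot.2 (t.loc_comm h hg hg' a.2 hv h1)
  have h1 : (cj g (Z0 A)).relIndex ψ.range = q := by
    rw [← inf_relIndex_right, hdis, relIndex_bot_left, hcard]
  have h2 : (cj g (Z0 A)).relIndex (Vof A D) = q := by
    rw [← t.idxV, ← relIndex_cj g (Z0 A), cj_eq_of_mem_norm (norm_Vof A D hg)]
  have hne : ∀ X Y : Subgroup G, X.relIndex Y ≠ 0 := fun X Y => index_ne_zero_of_finite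
  refine ⟨le_antisymm (h2 ▸ relIndex_le_of_le_right (Z0_le_Vof A D) (hne _ _))
    (h1 ▸ relIndex_le_of_le_right hP (hne _ _)), fun w hw => ?_⟩
  have hp := isProd_of_relIndex_le (hP.trans (Z0_le_Vof A D)) (cj_le_Vof hg) (by rw [h1, h2])
  obtain ⟨_, ⟨a, rfl⟩, z', hz', rfl⟩ := hp.2.2 w hw
  exact ⟨a, a.2, z', hz', rfl⟩

theorem TI.loc_prod (t : TI A D q) (h : Min2 A) {g : G} (hg : g ∈ 𝒩(D)) (hg' : g ∉ 𝒩(Z0 A))
    {w : G} (hw : w ∈ Vof A D) : ∃ z ∈ Z0 A, ∃ z' ∈ cj g (Z0 A), w = z * z' := by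
  obtain ⟨v, hv, hv'⟩ := loc_exists hg'
  obtain ⟨a, ha, z', hz', rfl⟩ := (t.loc_core h hg hg' hv hv').2 w hw
  exact ⟨_, h.comm_mem (t.toEss.V_le_A (cj_le_Vof hg hv)) ha, z', hz', rfl⟩

theorem TI.loc_nd (t : TI A D q) (h : Min2 A) {g a v : G} (hg : g ∈ 𝒩(D)) (hg' : g ∉ 𝒩(Z0 A))
    (ha : a ∈ A) (hv : v ∈ Vof A D) (hc : ⁅v, a⁆ ∈ cj g (Z0 A)) : ⁅v, a⁆ = 1 := by
  obtain ⟨z, hz, z', hz', rfl⟩ := t.loc_prod h hg hg' hv
  rw [h.loc_comm_Z hz (t.toEss.V_le_A (cj_le_Vof hg hz')) ha] at hc ⊢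
  exact t.loc_comm h hg hg' ha hz' hc

theorem TI.loc_onto (t : TI A D q) (h : Min2 A) {g : G} (hg : g ∈ 𝒩(D)) (hg' : g ∉ 𝒩(Z0 A))
    {v z : G} (hv : v ∈ cj g (Z0 A)) (hv' : v ∉ Z0 A) (hz : z ∈ Z0 A) :
    ∃ a ∈ A, ∃ r ∈ Z0 A ⊓ cj g (Z0 A), z = ⁅v, a⁆ * r := by
  obtain ⟨a, ha, r, hr, e⟩ := (t.loc_core h hg hg' hv hv').2 z (Z0_le_Vof A D hz)
  refine ⟨a, ha, r, ⟨?_, hr⟩, e⟩
  have := mul_mem (inv_mem (h.comm_mem (t.toEss.V_le_A (cj_le_Vof hg hv)) ha)) hz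
  rwa [e, inv_mul_cancel_left] at this

theorem TI.loc_cover (t : TI A D q) (h : Min2 A) {g : G} (hg : g ∈ 𝒩(D)) (hg' : g ∉ 𝒩(Z0 A))
    {v : G} (hv : v ∈ Vof A D) (hv' : v ∉ Z0 A) : ∃ a ∈ A, v ∈ cj (a * g) (Z0 A) := by
  have e := t.toEss
  obtain ⟨z, hz, z', hz', rfl⟩ := t.loc_prod h hg hg' hv
  have hn : z' ∉ Z0 A := fun hh => hv' (mul_mem hz hh)
  obtain ⟨a, ha, r, hr, rfl⟩ := t.loc_onto h hg hg' hz' hn hz
  refine ⟨a, ha, ?_⟩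
  have hz'V : z' ∈ Vof A D := cj_le_Vof hg hz'
  have hz'A : z' ∈ A := e.V_le_A hz'V
  have h1 : z'⁻¹ = z' := inv_eq_of_mul_eq_one_right (e.V_sq hz'V)
  have h2 : z' * ⁅z', a⁆ = ⁅z', a⁆ * z' := Z0_comm (h.comm_mem hz'A ha) hz'A
  have h3 : a * z' * a⁻¹ = ⁅z', a⁆ * z' := by
    rw [← h2]
    calc a * z' * a⁻¹ = z'⁻¹ * (z' * a * z' * a⁻¹) := by group
      _ = z' * ⁅z', a⁆ := by rw [commutatorElement_def, h1]
  have h4 : a * (z' * r) * a⁻¹ = ⁅z', a⁆ * r * z' := by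
    calc a * (z' * r) * a⁻¹ = a * z' * a⁻¹ * (a * r * a⁻¹) := by group
      _ = ⁅z', a⁆ * (z' * r) := by rw [h3, Z0_fix hr.1 ha, mul_assoc]
      _ = _ := by rw [Z0_comm hr.1 hz'A, mul_assoc]
  rw [cj_mul, ← h4, conj_mem_cj]
  exact mul_mem hz' hr.2

theorem TI.loc_tr (t : TI A D q) (h : Min2 A) {g g' : G} (hg : g ∈ 𝒩(D)) (hg1 : g ∉ 𝒩(Z0 A))
    (hg' : g' ∈ 𝒩(D)) (hg2 : g' ∉ 𝒩(Z0 A)) :
    ∃ a ∈ A, cj a (cj g (Z0 A)) = cj g' (Z0 A) := by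
  have e := t.toEss
  obtain ⟨b, hb, hb'⟩ := e.exists_not
  have hbc : b ∉ 𝒞(Vof A D) := fun hc => hb' (e.cenV h ▸ (⟨hb, hc⟩ : b ∈ A ⊓ 𝒞(Vof A D)))
  obtain ⟨v, hv, hvb⟩ : ∃ v ∈ Vof A D, ⁅v, b⁆ ≠ 1 := by
    by_contra hn
    push Not at hn
    exact hbc fun v hv => commutatorElement_eq_one_iff_mul_comm.1 (hn v hv)
  have hxZ : ⁅v, b⁆ ∈ Z0 A := h.comm_mem (e.V_le_A hv) hb
  have hxV : g' * ⁅v, b⁆ * g'⁻¹ ∈ Vof A D :=
    conj_mem_of_norm (norm_Vof A D) hg' (Z0_le_Vof A D hxZ)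
  have key : ∀ n ∈ 𝒩(D), g' * ⁅v, b⁆ * g'⁻¹ ∈ cj n (Z0 A) → g'⁻¹ * n ∈ 𝒩(Z0 A) := by
    intro n hn hx
    by_contra hh
    refine hvb (t.loc_nd h (mul_mem (inv_mem hg') hn) hh hb hv ?_)
    rw [cj_mul, mem_cj, inv_inv]
    exact hx
  by_cases hx : g' * ⁅v, b⁆ * g'⁻¹ ∈ Z0 A
  · have := key 1 (one_mem _) (by rwa [cj_one])
    rw [mul_one] at this
    exact absurd (inv_mem_iff.1 this) hg2
  · obtain ⟨a, ha, hxa⟩ := t.loc_cover h hg hg1 hxV hx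
    have := mem_norm_iff_cj.1 (key _ (mul_mem (e.norm h.toMin ha) hg) hxa)
    refine ⟨a, ha, ?_⟩
    rw [cj_mul, cj_eq_iff, inv_inv, cj_mul] at this
    exact this

theorem TI.loc_inf (t : TI A D q) (h : Min2 A) {g : G} (hg : g ∈ 𝒩(D)) (hg' : g ∉ 𝒩(Z0 A)) :
    Z0 A ⊓ cj g (Z0 A) = Rof A D := by
  refine le_antisymm (fun x hx n hn => ?_) (le_inf (Rof_le A D) (Rof_le_cj hg))
  by_cases hn' : n ∈ 𝒩(Z0 A)
  · exact conj_mem_of_norm le_rfl hn' hx.1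
  · obtain ⟨a, ha, e⟩ := t.loc_tr h hg hg' (inv_mem hn) (fun hh => hn' (inv_mem_iff.1 hh))
    have : a * x * a⁻¹ ∈ cj a (cj g (Z0 A)) := conj_mem_cj.2 hx.2
    rwa [e, Z0_fix hx.1 ha, mem_cj, inv_inv] at this

theorem TI.loc (t : TI A D q) (h : Min2 A) : Loc A D q := by
  have e := t.toEss
  obtain ⟨g, hg, hg0⟩ := SetLike.not_le_iff_exists.1 e.out
  have hg' : g ∉ 𝒩(Z0 A) := fun hh => hg0 (t.loc_mx h ▸ (⟨hg, hh⟩ : g ∈ 𝒩(D) ⊓ 𝒩(Z0 A)))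
  refine ⟨t, ?_, e.cenV h, t.loc_mx h, fun g hg hg' => e.fr h hg hg', ?_,
    fun g hg hg' => t.loc_inf h hg hg', fun g hg hg' v hv => t.loc_prod h hg hg' hv,
    fun g hg hg1 g' hg' hg2 => t.loc_tr h hg hg1 hg' hg2, fun g hg hg' a ha hn => ?_,
    fun g hg hg' v hv hv' => t.loc_cover h hg hg' hv hv',
    fun a ha v hv hc => t.loc_nd h hg hg' ha hv (Rof_le_cj hg hc), fun v hv hv' z hz => ?_,
    fun g hg hg' a ha ha' hn => ?_,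
    fun g hg hg' a ha ha' b hb hb' => e.odd h hg (t.loc_nm h hg') ha ha' hb hb'⟩
  · have h0 : D.relIndex A ≠ 0 := index_ne_zero_of_finite
    have h1 : D.relIndex A ≠ 1 := fun hh => e.lt.not_ge (relIndex_eq_one.1 hh)
    rw [t.idx] at h0 h1
    omega
  · obtain ⟨v, hv, hv'⟩ := loc_exists hg'
    rw [← t.loc_inf h hg hg', inf_comm, inf_relIndex_right]
    exact (t.loc_core h hg hg' hv hv').1
  · obtain ⟨v, hv, hv'⟩ := loc_exists hg'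
    refine t.loc_mem ha (cj_le_Vof hg hv) hv' (t.loc_comm h hg hg' ha hv ?_)
    have := mul_mem hv (conj_mem_of_norm le_rfl hn (inv_mem hv))
    rwa [show v * (a * v⁻¹ * a⁻¹) = ⁅v, a⁆ by simp only [commutatorElement_def]; group] at this
  · obtain ⟨z0, hz0, z', hz', rfl⟩ := t.loc_prod h hg hg' hv
    have hn : z' ∉ Z0 A := fun hh => hv' (mul_mem hz0 hh)
    obtain ⟨a, ha, r, hr, rfl⟩ := t.loc_onto h hg hg' hz' hn hz
    refine ⟨a, ha, r, t.loc_inf h hg hg' ▸ hr, ?_⟩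
    rw [h.loc_comm_Z hz0 (e.V_le_A (cj_le_Vof hg hz')) ha]
  · refine t.loc_nm h hg' (e.se h hg ha ha' ?_)
    rw [t.loc_mx h]
    exact mem_inf.2 ⟨mul_mem (mul_mem hg (e.norm h.toMin ha)) (inv_mem hg), hn⟩

end Cfsg.Agent.C2
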