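import Cfsg.Agent.C2.Alp
import Cfsg.Agent.C2.Fr

/-! notes/C2.md, section Om. -/

set_option autoImplicit false
set_option linter.unusedSectionVars false

namespace Cfsg.Agent.C2

open Cfsg Cfsg.Agent.H49 Cfsg.Agent.GOLD Subgroup
open scoped commutatorElement

universe u

variable {G : Type u} [Group G] [Finite G] {A D : Subgroup G}

theorem om_norm (A : Subgroup G) : 𝒩(A) ≤ 𝒩(closure {x | x ∈ A ∧ x * x = 1}) := fun g hg =>
  mem_norm_of_cj_le (cj_le_iff.2 ((closure_le _).2 fun x hx => mem_cj.2 (subset_closure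
    ⟨conj_mem_of_norm' le_rfl (inv_mem hg) hx.1, by
      rw [show g⁻¹⁻¹ * x * g⁻¹ * (g⁻¹⁻¹ * x * g⁻¹) = g * (x * x) * g⁻¹ by group, hx.2, mul_one,
        mul_inv_cancel]⟩)))

theorem om_he {W : Subgroup G} (e : Ess A D) (h : Min A) (hV : Vof A D ≤ W)
    (hne : ¬ CM D (Vof A D) ⊓ A ≤ D) (hM : Mx A D ≤ 𝒩(D ⊓ W)) : 𝒩(D) ≤ 𝒩(D ⊓ W) := fun g hg => by
  obtain ⟨x, hx, m, hm, rfl⟩ := fr_Mx (X := CM D (Vof A D)) h.sc e.le (e.norm h) (fun _ hx => hx.1)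
    (norm_CM le_rfl (norm_Vof A D)) hne g hg
  refine mul_mem (le_norm_iff.2 (fun x (hx : x ∈ CM D (Vof A D)) d hd =>
    mem_inf.2 ⟨conj_mem_of_norm le_rfl hx.1 hd.1, ?_⟩) hx) (hM hm)
  have := W.mul_mem (hV (hx.2.2 d hd.1)) hd.2
  rwa [inv_mul_cancel_right] at this

theorem Min.min2 (h : Min A) : Min2 A := by
  have hW : closure {x | x ∈ A ∧ x * x = 1} ≤ A := (closure_le _).2 fun _ hx => hx.1
  refine h.min2' (h.min _ hW (sc_of_ess h.sc hW (om_norm A) fun D e hM => ?_)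
    (ne_bot_mono (fun z (hz : z ∈ Z0 A) => Subgroup.subset_closure (Set.mem_setOf.2 ⟨hz.1, hz.2.2⟩))
      h.Z0_ne)).ge
  by_cases h1 : closure {x | x ∈ A ∧ x * x = 1} ≤ D
  · rw [inf_eq_right.2 h1, show closure {x | x ∈ A ∧ x * x = 1} = closure {x | x ∈ D ∧ x * x = 1} from
      le_antisymm (closure_mono fun x hx => ⟨h1 (subset_closure hx), hx.2⟩)
        (closure_mono fun x hx => ⟨e.le hx.1, hx.2⟩)]
    exact om_norm D
  refine om_he e h (fun v hv => subset_closure ⟨e.V_le_A hv, e.V_sq hv⟩)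
    (fun h2 => h1 ((closure_le _).2 fun t ht => h2 ⟨⟨e.norm h ht.1, e.normV h ht.1, fun d hd =>
      Z0_le_Vof A D ?_⟩, ht.1⟩)) hM
  have h3 := commutator_mem_commutator ht.1 (e.le hd)
  refine ⟨commutator_le_left_of_norm le_normalizer h3, h.cl h3, ?_⟩
  change ⁅t, d⁆ * ⁅t, d⁆ = 1
  rw [← h.comm_mul_left ht.1 ht.1 (e.le hd), ht.2, commutatorElement_one_left]

theorem Min2.sup_V (h : Min2 A) : A ≤ Z0 A ⊔ sSup {V | ∃ D, Ess A D ∧ V = Vof A D} := by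
  have hW : Z0 A ⊔ sSup {V | ∃ D, Ess A D ∧ V = Vof A D} ≤ A :=
    sup_le (Z0_le A) (sSup_le fun _ ⟨D, e, hV⟩ => hV ▸ e.V_le_A)
  refine (h.min _ hW (sc_of_ess h.sc hW (norm_sup (norm_Z0 A) fun g hg => ?_) fun D e hM =>
    om_he e h.toMin (le_sup_of_le_right (le_sSup ⟨D, e, rfl⟩))
      (fun h1 => e.lt.not_ge ((le_inf (e.A_le_CM h) le_rfl).trans h1)) hM)
    (ne_bot_mono le_sup_left h.Z0_ne)).ge
  refine mem_norm_of_cj_le (cj_le_iff.2 (sSup_le ?_))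
  rintro _ ⟨D, e, rfl⟩
  exact cj_le_iff.1 (le_sSup ⟨_, e.conj' hg, by rw [cj_Vof, cj_eq_of_mem_norm hg]⟩)

theorem Min2.exists_ess (h : Min2 A) : ∃ D, Ess A D := by_contra fun hn =>
  h.nab (h.sup_V.trans (sup_le (Z0_cent A) (sSup_le fun _ ⟨D, e, _⟩ => absurd ⟨D, e⟩ hn)))

theorem Ess.exists_out (e : Ess A D) (h : Min2 A) : ∃ D', Ess A D' ∧ ¬ Vof A D' ≤ D :=
  by_contra fun hn => e.lt.not_ge (h.sup_V.trans (sup_le e.Z0_le (sSup_le fun _ ⟨D', e', hV⟩ =>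
    hV ▸ by_contra fun c => hn ⟨D', e', c⟩)))

end Cfsg.Agent.C2
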