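import Cfsg.Agent.C2.Star
import Cfsg.Agent.C2.Loc
import Cfsg.Agent.C2.Om

set_option autoImplicit false
set_option linter.unusedVariables false
set_option linter.unusedSectionVars false

namespace Cfsg.Agent.C2

open Cfsg Cfsg.Agent.H49 Cfsg.Agent.GOLD Subgroup
open Cfsg.Agent.R2 (Two)
open scoped commutatorElement

universe u

variable {G : Type u} [Group G] [Finite G] {A D D' D'' E : Subgroup G} {q q' : ℕ}

theorem par_eq_of_relIndex {X Y W : Subgroup G} (h1 : X ≤ Y) (h2 : Y ≤ W)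
    (h : X.relIndex W ≤ Y.relIndex W) : X = Y := by
  refine eq_of_le_of_card_eq h1 (le_antisymm (card_le_of_le h1) ?_)
  have e1 := card_mul_relIndex (h1.trans h2)
  have e2 := card_mul_relIndex h2
  refine Nat.le_of_mul_le_mul_right ?_ (relIndex_pos Y W)
  rw [e2, ← e1]
  exact Nat.mul_le_mul_left _ h

theorem Ess.par_ineq (e : Ess A D) (h : Min2 A) (e' : Ess A D') {a : G} (ha : a ∈ Vof A D')
    (ha' : a ∉ D) : D.relIndex A ≤ 𝒞[a].relIndex (Vof A D) ∧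
      𝒞[a].relIndex (Vof A D) ≤ D'.relIndex (Vof A D) ∧ D'.relIndex (Vof A D) ≤ D'.relIndex A :=
  ⟨e.star h (e'.V_le_A ha) ha',
    relIndex_le_of_le_left (e'.V_cent.trans (cent_le_cent1 ha)) (relIndex_pos _ _).ne',
    relIndex_le_of_le_right e.V_le_A (relIndex_pos _ _).ne'⟩

theorem Ess.par_prod (e : Ess A D) (h : Min2 A) (e' : Ess A D') (n : ¬ Vof A D' ≤ D)
    (n' : ¬ Vof A D ≤ D') : D.relIndex A = D'.relIndex A ∧ D'.relIndex (Vof A D) = D.relIndex A ∧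
      ∀ a ∈ A, ∃ v ∈ Vof A D, ∃ d ∈ D', a = v * d := by
  obtain ⟨a, ha, ha'⟩ := SetLike.not_le_iff_exists.1 n
  obtain ⟨b, hb, hb'⟩ := SetLike.not_le_iff_exists.1 n'
  obtain ⟨h1, h2, h3⟩ := e.par_ineq h e' ha ha'
  obtain ⟨h4, h5, h6⟩ := e'.par_ineq h e hb hb'
  exact ⟨by omega, by omega, (isProd_of_relIndex_le e.V_le_A e'.le (by omega)).2.2⟩

theorem Ess.par_ti (e : Ess A D) (h : Min2 A) (e' : Ess A D') (n : ¬ Vof A D' ≤ D)
    (n' : ¬ Vof A D ≤ D') : Vof A D ⊓ D' = Z0 A ∧ TI A D (D.relIndex A) := by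
  obtain ⟨h1, h2, -⟩ := e.par_prod h e' n n'
  obtain ⟨-, -, h3⟩ := e'.par_prod h e n' n
  have hZ : Vof A D ⊓ D' = Z0 A := by
    refine le_antisymm (fun x hx => e.V_inf ▸ mem_inf.2 ⟨hx.1, fun a ha => ?_⟩)
      (le_inf (Z0_le_Vof A D) e'.Z0_le)
    obtain ⟨v, hv, d, hd, rfl⟩ := h3 a ha
    rw [mul_assoc, ← e.V_cent hd x hx.1, ← mul_assoc, e'.V_cent hx.2 v hv, mul_assoc]
  refine ⟨hZ, e, rfl, by rw [← hZ, inf_comm, inf_relIndex_right, h2], fun a ha ha' x hx => ?_⟩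
  obtain ⟨v, hv, d, hd, rfl⟩ := h3 a ha
  have hv' : v ∉ D := fun m => ha' (mul_mem m hd)
  obtain ⟨h4, -, -⟩ := e.par_ineq h e' hv hv'
  have h5 : D' ⊓ Vof A D = 𝒞[v] ⊓ Vof A D := par_eq_of_relIndex
    (inf_le_inf_right _ (e'.V_cent.trans (cent_le_cent1 hv))) inf_le_right
    (by rw [inf_relIndex_right, inf_relIndex_right]; omega)
  rw [← hZ, inf_comm, h5]
  refine ⟨mem_cent1.2 ?_, hx.1⟩
  have h6 := mem_cent1.1 hx.2
  rw [← mul_assoc, mul_assoc v, ← e.V_cent hd x hx.1, ← mul_assoc] at h6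
  exact mul_right_cancel h6

theorem Ess.par (e : Ess A D) (h : Min2 A) (e' : Ess A D') (n : ¬ Vof A D' ≤ D) :
    ∃ q, Par A D D' q := by
  have n' : ¬ Vof A D ≤ D' := fun m =>
    n (e.cenV h ▸ le_inf e'.V_le_A (cent_symm (m.trans e'.V_cent)))
  obtain ⟨h1, -, h2⟩ := e.par_prod h e' n n'
  obtain ⟨-, -, h3⟩ := e'.par_prod h e n' n
  obtain ⟨h4, t⟩ := e.par_ti h e' n n'
  obtain ⟨h5, t'⟩ := e'.par_ti h e n' n
  exact ⟨_, t.loc h, h1 ▸ t'.loc h, n, n', h3, h2, h5, h4⟩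

theorem Ess.exists_par (e : Ess A D) (h : Min2 A) : ∃ D' q, Par A D D' q := by
  obtain ⟨D', e', n⟩ := e.exists_out h
  exact ⟨D', e.par h e' n⟩

theorem Par.dec (p : Par A D D' q) (h : Min2 A) {d : G} (hd : d ∈ D) :
    ∃ v ∈ Vof A D, ∃ c ∈ D ⊓ D', d = v * c := by
  obtain ⟨v, hv, c, hc, rfl⟩ := p.sup' d (p.l.ess.le hd)
  exact ⟨v, hv, c, ⟨(mul_mem_cancel_left (p.l.ess.V_le hv)).1 hd, hc⟩, rfl⟩

theorem Par.inv (p : Par A D D' q) (h : Min2 A) {x : G} (hx : x ∈ A) (h2 : x * x = 1) :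
    x ∈ D ∨ x ∈ D' := by
  obtain ⟨w, hw, d, hd, rfl⟩ := p.sup x hx
  obtain ⟨v, hv, c, hc, rfl⟩ := p.dec h hd
  by_cases hw' : w ∈ D
  · exact Or.inl (mul_mem hw' hd)
  have c1 := p.l.ess.V_cent hc.1 v hv
  have c2 := p.r.ess.V_cent hc.2 w hw
  have vi := inv_eq_of_mul_eq_one_right (p.l.ess.V_sq hv)
  have wi := inv_eq_of_mul_eq_one_right (p.r.ess.V_sq hw)
  have e : ⁅v, w⁆ = c * c := by
    have : ⁅v, w⁆⁻¹ * (c * c) = 1 := by
      rw [← h2, commutatorElement_inv, commutatorElement_def, vi, wi]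
      calc _ = w * v * (w * (v * c)) * c := by group
        _ = w * v * (w * c) * v * c := by rw [c1]; group
        _ = _ := by rw [c2]; group
    exact inv_mul_eq_one.1 this
  have e1 := p.l.nd w (p.r.ess.V_le_A hw) v hv (e ▸ p.l.ess.sq_mem h hc.1)
  have hZ := p.l.ti w (p.r.ess.V_le_A hw) hw'
    ⟨hv, mem_cent1.2 (commutatorElement_eq_one_iff_mul_comm.1 e1)⟩
  exact Or.inr (mul_mem (p.r.ess.V_le hw) (mul_mem (p.r.ess.Z0_le hZ) hc.2))

theorem Par.uniq (p : Par A D D' q) (h : Min2 A) (p' : Par A D D'' q') : D'' = D' := by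
  have hm := h.toMin
  obtain ⟨y, hy, hy'⟩ := SetLike.not_le_iff_exists.1 p'.out
  have iv : ∀ x ∈ Vof A D'', x ∈ D ∨ x ∈ D' := fun x hx =>
    p.inv h (p'.r.ess.V_le_A hx) (p'.r.ess.V_sq hx)
  have h1 : Vof A D'' ≤ D' := fun x hx => (iv x hx).elim (fun hD =>
    (mul_mem_cancel_right ((iv y hy).resolve_left hy')).1 ((iv _ (mul_mem hx hy)).resolve_left
      fun m => hy' ((mul_mem_cancel_left hD).1 m))) id
  have h2 : D' ≤ D'' := by
    intro d hd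
    obtain ⟨w, hw, c, hc, rfl⟩ := p.symm.dec h hd
    rw [← p'.r.cenV]
    refine mul_mem ⟨p.r.ess.V_le_A hw, cent_symm (h1.trans p.r.ess.V_cent) hw⟩
      ⟨p.r.ess.le hc.1, fun x hx => ?_⟩
    have hxA := p'.r.ess.V_le_A hx
    have hcA := p.r.ess.le hc.1
    have m : ⁅c, x⁆ ∈ Rof A D := by
      obtain ⟨w₁, hw₁, c₁, hc₁, rfl⟩ := p.symm.dec h (h1 hx)
      rw [hm.comm_mul_right hcA (p.r.ess.V_le_A hw₁) (p.r.ess.le hc₁.1),
        commutatorElement_eq_one_iff_mul_comm.2 (p.r.ess.V_cent hc.1 w₁ hw₁).symm, one_mul]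
      exact p.l.ess.comm_mem h hc.2 hc₁.2
    obtain ⟨v, hv, c₂, hc₂, e⟩ := p'.dec h hc.2
    have e2 : ⁅c, x⁆ = ⁅v, x⁆ := by
      rw [e, hm.comm_mul_left (p.l.ess.V_le_A hv) (p.l.ess.le hc₂.1) hxA,
        commutatorElement_eq_one_iff_mul_comm.2 (p'.r.ess.V_cent hc₂.2 x hx).symm, mul_one]
    rw [e2] at m
    exact (commutatorElement_eq_one_iff_mul_comm.1 (e2.trans (p.l.nd x hxA v hv m))).symm
  exact (par_eq_of_relIndex h2 p'.r.ess.le (by rw [p.r.idx, p'.r.idx, ← p.l.idx, p'.l.idx])).symm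

theorem Par.V_le (p : Par A D D' q) (h : Min2 A) (e : Ess A E) (n : E ≠ D') : Vof A E ≤ D := by
  by_contra hc
  obtain ⟨q', p'⟩ := p.l.ess.par h e hc
  exact n (p.uniq h p')

theorem Par.ne (p : Par A D D' q) : D ≠ D' := fun e => p.out (e ▸ p.l.ess.V_le)

theorem Par.conj (p : Par A D D' q) (h : Min2 A) {g : G} (hg : g ∈ 𝒩(A)) :
    ∃ q', Par A (cj g D) (cj g D') q' := 
  (p.l.ess.conj' hg).par h (p.r.ess.conj' hg) fun m => p.out (by
    rw [← cj_le_cj_iff (g := g), cj_Vof, cj_eq_of_mem_norm hg]; exact m)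

end Cfsg.Agent.C2
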