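import Cfsg.Agent.C2.Sep

set_option autoImplicit false
set_option linter.unusedVariables false
set_option linter.unusedSectionVars false

namespace Cfsg.Agent.C2

open Cfsg Cfsg.Agent.H49 Cfsg.Agent.GOLD Subgroup
open Cfsg.Agent.R2 (Two)
open scoped commutatorElement

universe u

variable {G : Type u} [Group G] [Finite G] {A D D' : Subgroup G} {q : ℕ}

theorem Par.pra_le (p : Par A D D' q) (h : Min2 A) :
    sSup {U | ∃ E, Ess A E ∧ E ≠ D ∧ E ≠ D' ∧ U = Uof A E} ≤ D ⊓ D' := by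
  refine sSup_le ?_
  rintro _ ⟨E, e, n, n', rfl⟩
  exact (e.U_le h.toMin).trans (le_inf (p.V_le h e n') (p.symm.V_le h e n))

theorem Par.pra_k (p : Par A D D' q) (h : Min2 A) : ∃ k ∈ 𝒩(D), k ∉ 𝒩(Z0 A) ∧
    k ∈ 𝒞(sSup {U | ∃ E, Ess A E ∧ (E ≠ D ∧ E ≠ D') ∧ U = Uof A E}) := by
  obtain ⟨k, h1, h2, h3⟩ := p.sep h
  refine ⟨k, h1, h2, le_cent1_iff.1 (sSup_le ?_)⟩
  rintro _ ⟨E, e, n, rfl⟩
  exact le_cent1_iff.2 (h3 E e n.1 n.2)

theorem Min2.R_bot (h : Min2 A) {z : G} (hz : z ∈ Z0 A) (h1 : ∀ D, Ess A D → z ∈ Rof A D) :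
    z = 1 := by
  by_contra hz1
  let W : Subgroup G := Z0 A ⊓ ⨅ D, ⨅ (_ : Ess A D), Rof A D
  have mW : ∀ x, x ∈ W ↔ x ∈ Z0 A ∧ ∀ D, Ess A D → x ∈ Rof A D := fun x => by
    simp only [W, mem_inf, mem_iInf]
  have hW : W ≤ A := inf_le_left.trans (Z0_le A)
  have sc : SC ⊤ W := sc_of_ess h.sc hW (le_norm_iff.2 fun g hg x hx => (mW _).2
    ⟨conj_mem_of_norm (norm_Z0 A) hg ((mW x).1 hx).1, fun D e => by
      have := ((mW x).1 hx).2 _ (e.conj' (inv_mem hg))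
      rwa [← cj_eq_of_mem_norm (inv_mem hg), ← cj_Rof, mem_cj, inv_inv] at this⟩)
    fun D e hM g hg => by
      obtain ⟨x, hx, m, hm, rfl⟩ := fr_Mx h.sc e.le (e.norm h.toMin) (e.K_le h.toMin)
        (le_norm_Kof _ _) (fun hc => e.lt.not_ge ((le_inf (le_Kof _ _) le_rfl).trans hc)) g hg
      exact mul_mem (cent_le_norm _ (cent_anti (fun y (hy : y ∈ D ⊓ W) => ((mW y).1 hy.2).2 D e)
        (K_cent_Rof A D hx))) (hM hm)
  have e := h.min W hW sc (ne_bot_iff_exists.2 ⟨z, (mW z).2 ⟨hz, h1⟩, hz1⟩)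
  exact h.nab (e.ge.trans (inf_le_left.trans (Z0_cent A)))

theorem Min2.sup_U (h : Min2 A) : A ≤ sSup {U | ∃ D, Ess A D ∧ U = Uof A D} := by
  have hm := h.toMin
  have hW : sSup {U | ∃ D, Ess A D ∧ U = Uof A D} ≤ A := sSup_le (by
    rintro _ ⟨D, e, rfl⟩; exact e.U_le_A hm)
  have le : ∀ D, Ess A D → Uof A D ≤ sSup {U | ∃ D, Ess A D ∧ U = Uof A D} := fun D e =>
    le_sSup ⟨D, e, rfl⟩
  refine (h.min _ hW (sc_of_ess h.sc hW (fun g hg => mem_norm_of_cj_le (cj_le_iff.2 (sSup_le ?_)))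
    fun E e hM g hg => ?_) ?_).ge
  · rintro _ ⟨D, e, rfl⟩
    rw [← cj_le_iff, cj_Uof, cj_eq_of_mem_norm hg]
    exact le _ (e.conj' hg)
  · obtain ⟨E', q, p⟩ := e.exists_par h
    obtain ⟨k, k1, k2, k3⟩ := p.pra_k h
    have l1 : sSup {U | ∃ D, Ess A D ∧ (D ≠ E ∧ D ≠ E') ∧ U = Uof A D} ≤ E := sSup_le (by
      rintro _ ⟨D, e', n, rfl⟩; exact (e'.U_le hm).trans (p.V_le h e' n.2))
    have e1 : E ⊓ sSup {U | ∃ D, Ess A D ∧ U = Uof A D} =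
        Uof A E ⊔ sSup {U | ∃ D, Ess A D ∧ (D ≠ E ∧ D ≠ E') ∧ U = Uof A D} := by
      refine le_antisymm (fun x hx => ?_) (sup_le (le_inf ((e.U_le hm).trans e.V_le) (le E e))
        (le_inf l1 (sSup_le ?_)))
      · have : sSup {U | ∃ D, Ess A D ∧ U = Uof A D} ≤ (Uof A E ⊔ Uof A E') ⊔
            sSup {U | ∃ D, Ess A D ∧ (D ≠ E ∧ D ≠ E') ∧ U = Uof A D} := sSup_le (by
          rintro _ ⟨D, e', rfl⟩
          by_cases n : D = E
          · rw [n]; exact le_sup_of_le_left le_sup_left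
          by_cases n' : D = E'
          · rw [n']; exact le_sup_of_le_left le_sup_right
          exact le_sup_of_le_right (le_sSup ⟨D, e', ⟨n, n'⟩, rfl⟩))
        obtain ⟨y, hy, w, hw, rfl⟩ := (mem_sup_of_norm_left ((l1.trans e.le).trans (norm_sup
          ((e.norm hm).trans (norm_Uof A E)) ((p.r.ess.norm hm).trans (norm_Uof A E'))))).1
          (this hx.2)
        exact mul_mem (mem_sup_left (p.P_inf h ▸ mem_inf.2
          ⟨hy, (mul_mem_cancel_right (l1 hw)).1 hx.1⟩)) (mem_sup_right hw)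
      · rintro _ ⟨D, e', -, rfl⟩; exact le D e'
    by_cases hg' : g ∈ 𝒩(Z0 A)
    · exact hM (p.l.mx ▸ mem_inf.2 ⟨hg, hg'⟩)
    obtain ⟨a, ha, e2⟩ := p.l.tr k k1 k2 g hg hg'
    have m : (a * k)⁻¹ * g ∈ Mx A E := p.l.mx ▸ mem_inf.2
      ⟨mul_mem (inv_mem (mul_mem (e.norm hm ha) k1)) hg, by
        rw [mem_norm_iff_cj, cj_mul, ← e2, cj_cj a, cj_inv_cj]⟩
    rw [← mul_inv_cancel_left (a * k) g]
    refine mul_mem (mul_mem (hM (e.A_le_Mx hm ha)) ?_) (hM m)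
    rw [e1, mem_norm_iff_cj, cj_sup, cj_eq_of_mem_norm (norm_Uof A E k1), cj_eq_of_mem_cent k3]
  · obtain ⟨D, e⟩ := h.exists_ess
    obtain ⟨D', q, p⟩ := e.exists_par h
    obtain ⟨u, hu, u', -, hc⟩ := p.nc h
    exact ne_bot_iff_exists.2 ⟨u, le D e hu, fun e => hc (by rw [e, one_mul, mul_one])⟩

theorem Par.disj (p : Par A D D' q) (h : Min2 A) {x : G} (hx : x ∈ Uof A D ⊔ Uof A D')
    (hx' : x ∈ sSup {U | ∃ E, Ess A E ∧ E ≠ D ∧ E ≠ D' ∧ U = Uof A E}) : x = 1 := by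
  have h1 : x ∈ ⁅Vof A D, A⁆ := p.P_inf2 h ▸ mem_inf.2 ⟨hx, p.pra_le h hx'⟩
  have hZ := p.l.ess.commV_le h h1
  have key : ∀ {D D' : Subgroup G}, Par A D D' q →
      x ∈ sSup {U | ∃ E, Ess A E ∧ (E ≠ D ∧ E ≠ D') ∧ U = Uof A E} → x ∈ Rof A D := by
    intro D D' p hx
    obtain ⟨k, k1, k2, k3⟩ := p.pra_k h
    rw [← p.l.inf k k1 k2]
    exact mem_inf.2 ⟨hZ, by rw [mem_cj, mul_assoc, k3 x hx, inv_mul_cancel_left]; exact hZ⟩
  refine h.R_bot hZ fun E e => ?_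
  by_cases n : E = D
  · exact n ▸ key p (by simpa only [and_assoc] using hx')
  by_cases n' : E = D'
  · refine n' ▸ key p.symm (SetLike.le_def.1 (sSup_le_sSup ?_) hx')
    rintro _ ⟨F, f, a, b, rfl⟩
    exact ⟨F, f, ⟨b, a⟩, rfl⟩
  exact p.Z1_le h e n n' h1

theorem Par.one (p : Par A D D' q) (h : Min2 A) (h1 : ∀ E, Ess A E → E = D ∨ E = D') :
    One A D D' q := by
  have hm := h.toMin
  have hA : Uof A D ⊔ Uof A D' = A := le_antisymm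
    (sup_le (p.l.ess.U_le_A hm) (p.r.ess.U_le_A hm)) (h.sup_U.trans (sSup_le (by
      rintro _ ⟨E, e, rfl⟩
      rcases h1 E e with rfl | rfl
      exacts [le_sup_left, le_sup_right])))
  have u1 : Uof A D = D := by rw [← p.P_inf h, hA, inf_eq_right.2 p.l.ess.le]
  have u2 : Uof A D' = D' := by rw [← p.symm.P_inf h, sup_comm, hA, inf_eq_right.2 p.r.ess.le]
  have v1 : Vof A D = D := le_antisymm p.l.ess.V_le (u1.ge.trans (p.l.ess.U_le hm))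
  have v2 : Vof A D' = D' := le_antisymm p.r.ess.V_le (u2.ge.trans (p.r.ess.U_le hm))
  have hZ : Z0 A = D ⊓ D' := by rw [← p.inf', v1]
  obtain ⟨S, hS, hle⟩ := exists_sylowOf_ge (isPi_of_isPGroup Nat.prime_two hm.pg) (le_refl A)
  rw [le_antisymm hS.le hle] at hS
  refine ⟨h, p, ⟨hS, v1 ▸ p.l.ess.ea, v2 ▸ p.r.ess.ea, by rwa [u1, u2] at hA,
    fun x hx => p.inv h hx, fun m => p.out' (v1.le.trans m), fun m => p.out (v2.le.trans m)⟩,
    hZ, v1, v2, ?_, eq_bot_iff.2 fun x hx => h.R_bot (Rof_le _ _ hx.1) fun E e => ?_⟩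
  · have := p.P_inf2 h
    rw [p.Z1 h, hA, inf_eq_right.2 (inf_le_left.trans p.l.ess.le), u1, u2] at this
    rw [hZ, this]
  · rcases h1 E e with rfl | rfl
    exacts [hx.1, hx.2]

end Cfsg.Agent.C2
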