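import Cfsg.Agent.C2.Fr
import Cfsg.Agent.H8.Dihedral

set_option autoImplicit false
set_option linter.unusedVariables false
set_option linter.unusedSectionVars false

namespace Cfsg.Agent.C2

open Cfsg Cfsg.Agent.H49 Cfsg.Agent.GOLD Subgroup
open Cfsg.Agent.R2 (Two)
open Cfsg.Agent.H82G (exists_syl_ge syl_pg pi2 sc_mem)
open scoped commutatorElement

universe u

variable {G : Type u} [Group G] [Finite G] {A D : Subgroup G}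

theorem se_normX (A D : Subgroup G) : 𝒩(D) ≤ 𝒩(CM D (Vof A D) ⊓ 𝒞(Vof A D)) :=
  norm_inf (norm_CM le_rfl (norm_Vof A D)) (norm_cent (norm_Vof A D))

theorem Ess.CM_cent_le (e : Ess A D) (h : Min2 A) : CM D (Vof A D) ⊓ 𝒞(Vof A D) ≤ Mx A D := by
  intro y hy
  obtain ⟨c, hc, t, ht, rfl⟩ := odd_split (D := D) h.sc ((e.norm h.toMin).trans (se_normX A D))
    (fun _ hx => hx.1.1) (fun y hy ho => cent_of_odd (h.toMin.pg.to_le e.le) e.V_le ho hy.2 hy.1.2.2)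
    y hy
  exact mul_mem (cent_le_Mx A D hc.2) (e.normA_le ⟨ht.1.1.1, ht.2⟩)

theorem Ess.cenV (e : Ess A D) (h : Min2 A) : A ⊓ 𝒞(Vof A D) = D := by
  refine le_antisymm ?_ (le_inf e.le e.V_cent)
  by_contra hn
  refine e.out fun g hg => ?_
  obtain ⟨x, hx, m, hm, rfl⟩ := fr_Mx (X := CM D (Vof A D) ⊓ 𝒞(Vof A D)) h.sc e.le
    (e.norm h.toMin) (fun _ hx => hx.1.1) (se_normX A D) (fun h1 => hn fun x hx => h1 ⟨⟨e.A_le_CM h hx.1, hx.2⟩, hx.1⟩) g hg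
  exact mul_mem (e.CM_cent_le h hx) hm

theorem Ess.fr (e : Ess A D) (h : Min2 A) {g : G} (hg : g ∈ 𝒩(D)) (hg' : g ∈ 𝒩(Z0 A)) :
    ∃ c ∈ 𝒞(D), ∃ n ∈ 𝒩(D) ⊓ 𝒩(A), g = c * n := by
  have aZ : A ≤ 𝒩(Z0 A) := le_normalizer.trans (norm_Z0 A)
  have h1 : A ≤ 𝒩(D) ⊓ 𝒩(Z0 A) := le_inf (e.norm h.toMin) aZ
  have hV : 𝒩(D) ⊓ 𝒩(Z0 A) ≤ 𝒩(Vof A D) := inf_le_left.trans (norm_Vof A D)
  have h2 : 𝒩(D) ⊓ 𝒩(Z0 A) ≤ 𝒩(CM D (Vof A D) ⊓ CM (Vof A D) (Z0 A) ⊓ 𝒞(Z0 A)) :=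
    norm_inf (norm_inf (norm_CM inf_le_left hV) (norm_CM hV inf_le_right)) (norm_cent inf_le_right)
  obtain ⟨y, hy, n, hn, rfl⟩ := (h.sc.mono h1 le_top).frattini
    (N := CM D (Vof A D) ⊓ CM (Vof A D) (Z0 A) ⊓ 𝒞(Z0 A))
    (le_inf (le_inf (e.A_le_CM h) fun a ha => ⟨e.normV h.toMin ha, aZ ha,
      fun v hv => h.comm_mem ha (e.V_le_A hv)⟩) (cent_Z0 A))
    (fun x hx => ⟨hx.1.1.1, hx.1.2.2.1⟩) h2 g ⟨hg, hg'⟩
  obtain ⟨c, hc, t, ht, rfl⟩ := odd_split (D := D) h.sc (h1.trans h2) (fun _ hx => hx.1.1.1)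
    (fun y hy ho => cent_of_odd (h.toMin.pg.to_le e.le) e.V_le ho
      (cent_of_odd (h.toMin.pg.to_le e.V_le_A) (Z0_le_Vof A D) ho hy.2 hy.1.2.2.2) hy.1.1.2.2) y hy
  exact ⟨c, hc.2, t * n, ⟨mul_mem ht.1.1.1.1 hn.1.1, mul_mem ht.2 hn.2⟩, mul_assoc _ _ _⟩

theorem Ess.se (e : Ess A D) (h : Min2 A) {g a : G} (hg : g ∈ 𝒩(D)) (ha : a ∈ A) (ha' : a ∉ D)
    (hm : g * a * g⁻¹ ∈ Mx A D) : g ∈ Mx A D := by
  obtain ⟨T, hT, hAT⟩ := exists_syl_ge h.toMin.pg (e.A_le_Mx h.toMin)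
  obtain ⟨m, hm1, hm2⟩ := sylowOf_subJ hT (zpowers_le.2 hm) (by
    rw [← cj_zpowers]; exact pi2 (isPGroup_cj.2 (h.toMin.pg.to_le (zpowers_le.2 ha))))
  have hn : m * g ∈ 𝒩(D) := mul_mem (Mx_le A D hm1) hg
  have h1 : m * g * a * (m * g)⁻¹ ∈ A := sc_mem h.sc hAT le_top (syl_pg hT) ha (mem_top _) (by
    rw [show m * g * a * (m * g)⁻¹ = m * (g * a * g⁻¹) * m⁻¹ by group]
    exact hm2 (conj_mem_cj.2 (mem_zpowers _)))
  have nn : ∀ b ∈ A, A ≤ 𝒩(D ⊔ zpowers b) := fun b hb => norm_of_der_le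
    ((h.der.trans e.Z0_le).trans le_sup_left) (sup_le e.le (zpowers_le.2 hb))
  have hY : 𝒩(D) ⊓ 𝒩(D ⊔ zpowers a) ≤ Mx A D := inf_le_Mx
    (left_lt_sup.2 fun h => ha' (zpowers_le.1 h)) (sup_le e.le (zpowers_le.2 ha))
  obtain ⟨S, hS, hAS⟩ := exists_syl_ge h.toMin.pg (le_inf (e.norm h.toMin) (nn a ha))
  obtain ⟨y, hy, hy2⟩ := sylowOf_subJ hS (X := cj (m * g)⁻¹ A) (le_inf
    (cj_le_of_mem (e.norm h.toMin) (inv_mem hn)) (by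
      rw [← le_cj_iff, cj_normalizer, cj_sup, cj_zpowers, mem_norm_iff_cj.1 hn]
      exact nn _ h1)) (pi2 (isPGroup_cj.2 h.toMin.pg))
  rw [cj_cj] at hy2
  have h2 : y * (m * g)⁻¹ ∈ 𝒩(A) := mem_norm_of_cj_le (PFM.cj_le_of_forall fun x hx =>
    sc_mem h.sc hAS le_top (syl_pg hS) hx (mem_top _) (hy2 (conj_mem_cj.2 hx)))
  have h3 := e.normA_le (mem_inf.2 ⟨mul_mem hy.1 (inv_mem hn), h2⟩)
  rwa [mul_mem_cancel_left (hY hy), inv_mem_iff, mul_mem_cancel_left hm1] at h3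

theorem se_odd {M : Subgroup G} (h : SC ⊤ A) (hM : A ≤ M)
    (se : ∀ g, ∀ a ∈ A, a ≠ 1 → g * a * g⁻¹ ∈ M → g ∈ M) {g a b : G} (hg : g ∉ M) (ha : a ∈ A)
    (a1 : a ≠ 1) (a2 : a * a = 1) (hb : b ∈ A) (b1 : b ≠ 1) (b2 : b * b = 1) :
    Odd (orderOf (a * (g * b * g⁻¹))) := by
  by_contra he
  rw [Nat.not_odd_iff_even] at he
  have t2 := H71.conj_sq b2 g
  obtain ⟨w1, w2, w3⟩ := H8.central_involution a2 t2 he
  have hc := H8.isConj_refl a2 t2 (orderOf (a * (g * b * g⁻¹)) / 2 : ℕ)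
  rw [zpow_natCast] at hc
  generalize (a * (g * b * g⁻¹)) ^ (orderOf (a * (g * b * g⁻¹)) / 2) = i at *
  have h1 : g⁻¹ * i * g ∈ M := se _ b hb b1 (by
    rw [show g⁻¹ * i * g * b * (g⁻¹ * i * g)⁻¹ = g⁻¹ * (i * (g * b * g⁻¹)) * i⁻¹ * g by group, w3,
      show g⁻¹ * (g * b * g⁻¹ * i) * i⁻¹ * g = b by group]
    exact hM hb)
  have m1 : a ∈ closure ({a, i} : Set G) := subset_closure (by simp)
  obtain ⟨l, -, -, hl⟩ := PFM.pos h le_rfl le_top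
    (H8.isPGroup_closure_pair_of_commute a2 (H8.mul_self_of_orderOf_two w1) w2.symm)
  have l1 : l * a * l⁻¹ ∈ A := hl a m1 1 (mem_top _) (by simpa using ha)
  have l2 : l * (a * i) * l⁻¹ ∈ A := by
    rcases hc with hc | hc <;> obtain ⟨c, hc⟩ := isConj_iff.1 hc.symm
    · exact hl _ (H8.mul_mem_closure_pair a i) c (mem_top _) (by rw [hc]; exact ha)
    · refine hl _ (H8.mul_mem_closure_pair a i) (g⁻¹ * c) (mem_top _) ?_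
      rw [show g⁻¹ * c * (a * i) * (g⁻¹ * c)⁻¹ = g⁻¹ * (c * (a * i) * c⁻¹) * g by group, hc]
      simpa [mul_assoc] using hb
  have l3 : l * i * l⁻¹ ∈ A := by
    simpa [mul_assoc] using mul_mem (inv_mem l1) l2
  have := se (g⁻¹ * l⁻¹) _ l3 (by simpa using H8.ne_one_of_orderOf_two w1)
    (by simpa [mul_assoc] using h1)
  rw [mul_mem_cancel_right (inv_mem (se l a ha a1 (hM l1))), inv_mem_iff] at this
  exact hg this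

theorem Ess.odd (e : Ess A D) (h : Min2 A) {g a b : G} (hg : g ∈ 𝒩(D)) (hg' : g ∉ Mx A D)
    (ha : a ∈ A) (ha' : a ∉ D) (hb : b ∈ A) (hb' : b ∉ D) :
    ∃ n : ℕ, Odd n ∧ (a * (g * b * g⁻¹)) ^ n ∈ 𝒞(Vof A D) := by
  set X := CM D (Vof A D) ⊓ 𝒞(Vof A D)
  haveI : (X.subgroupOf 𝒩(D)).Normal := normal_subgroupOf (se_normX A D)
  let f := QuotientGroup.mk' (X.subgroupOf 𝒩(D))
  have hf : Function.Surjective f := QuotientGroup.mk'_surjective _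
  have h1 : ∀ x : 𝒩(D), f x = 1 ↔ (x : G) ∈ X := fun x => QuotientGroup.eq_one_iff x
  have hM : ∀ x : 𝒩(D), f x ∈ ((Mx A D).subgroupOf 𝒩(D)).map f ↔ (x : G) ∈ Mx A D := fun x => by
    rw [← mem_comap, comap_map_eq_self (by
      rw [QuotientGroup.ker_mk']; exact subgroupOf_mono _ (e.CM_cent_le h)), mem_subgroupOf]
  have hD : ∀ x : 𝒩(D), (x : G) ∈ A → (f x = 1 ↔ (x : G) ∈ D) := fun x hx => by
    rw [h1]
    exact ⟨fun h2 => (e.cenV h).le ⟨hx, h2.2⟩, fun h2 => ⟨e.A_le_CM h hx, e.V_cent h2⟩⟩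
  have hA := e.norm h.toMin
  have sc := (h.sc.mono hA le_top).subgroupOf.map f
  rw [map_top_of_surjective f hf] at sc
  have sq : ∀ x : 𝒩(D), (x : G) ∈ A → f x * f x = 1 := fun x hx => by
    rw [← map_mul, hD _ (mul_mem hx hx)]; exact e.Z0_le (h.sq _ hx)
  have := se_odd sc (map_mono (subgroupOf_mono _ (e.A_le_Mx h.toMin))) (by
      rintro g _ ⟨a, ha, rfl⟩ a1 h2
      obtain ⟨g, rfl⟩ := hf g
      rw [← map_inv, ← map_mul, ← map_mul, hM] at h2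
      exact (hM g).2 (e.se h g.2 ha (fun h3 => a1 ((hD a ha).2 h3)) h2))
    (g := f ⟨g, hg⟩) (a := f ⟨a, hA ha⟩) (b := f ⟨b, hA hb⟩) (fun h2 => hg' ((hM _).1 h2))
    ⟨_, ha, rfl⟩ (fun h2 => ha' ((hD _ ha).1 h2)) (sq _ ha) ⟨_, hb, rfl⟩
    (fun h2 => hb' ((hD _ hb).1 h2)) (sq _ hb)
  rw [← map_inv, ← map_mul, ← map_mul, ← map_mul] at this
  exact ⟨_, this, ((h1 (_ ^ _)).1 ((map_pow f _ _).trans (pow_orderOf_eq_one _))).2⟩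

theorem Ess.not_cent (e : Ess A D) (h : Min2 A) {g a b : G} (hg : g ∈ 𝒩(D)) (hg' : g ∉ Mx A D)
    (ha : a ∈ A) (hb : b ∈ A) (hb' : b ∉ D) : a * (g * b * g⁻¹) ∉ 𝒞(Vof A D) := fun hc => by
  have := e.CM_cent_le h ⟨e.K_le_CM h (mul_mem (le_Kof _ _ ha) (cj_le_Kof hg (conj_mem_cj.2 hb))), hc⟩
  rw [mul_mem_cancel_left (e.A_le_Mx h.toMin ha)] at this
  exact hg' (e.se h hg hb hb' this)

theorem Ess.fix_of_mem (e : Ess A D) (h : Min2 A) {g a v : G} (hg : g ∈ 𝒩(D)) (hg' : g ∉ Mx A D)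
    (ha : a ∈ A) (hv : v ∈ cj g (Z0 A)) (hc : a * v * a⁻¹ ∈ cj g (Z0 A)) : a * v * a⁻¹ = v := by
  have hV : 𝒞(Vof A D) ≤ 𝒞[v] := cent_le_cent1 (cj_le_Vof hg hv)
  rw [mul_inv_eq_iff_eq_mul, ← mem_cent1]
  by_cases ha' : a ∈ D
  · exact hV (e.V_cent ha')
  obtain ⟨n, ⟨k, rfl⟩, hn⟩ := e.odd h hg hg' ha ha' ha ha'
  have ht : g * a * g⁻¹ ∈ 𝒞(cj g (Z0 A)) := by
    rw [← cj_centralizer]; exact conj_mem_cj.2 (cent_Z0 A ha)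
  generalize g * a * g⁻¹ = t at *
  have h1 : t ∈ 𝒞[v] := cent_le_cent1 hv ht
  have h2 : a⁻¹ * t * a ∈ 𝒞[v] := by
    rw [← mem_cj, cj_cent1]; exact cent_le_cent1 hc ht
  have h3 : (a * t) ^ 2 ∈ 𝒞[v] := by
    rw [show (a * t) ^ 2 = a * a * (a⁻¹ * t * a) * t by rw [sq]; group]
    exact mul_mem (mul_mem (hV (e.V_cent (e.Z0_le (h.sq a ha)))) h2) h1
  have h4 := hV hn
  rwa [pow_succ, pow_mul, mul_mem_cancel_left (pow_mem h3 k), mul_mem_cancel_right h1] at h4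

end Cfsg.Agent.C2
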