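import Cfsg.Agent.C2.Basic

set_option autoImplicit false
set_option linter.unusedVariables false
set_option linter.unusedSectionVars false

namespace Cfsg.Agent.C2

open Cfsg Cfsg.Agent.H49 Cfsg.Agent.GOLD Subgroup
open Cfsg.Agent.R2 (Two)
open scoped commutatorElement

universe u

variable {G : Type u} [Group G] [Finite G] {A D D' : Subgroup G} {q : ℕ}

theorem Loc.uq_norm (l : Loc A D q) (h : Min2 A) {g : G} (hg : g ∈ 𝒩(D)) (hg' : g ∈ 𝒩(Z0 A)) :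
    g ∈ 𝒩(⁅Vof A D, A⁆) := by
  obtain ⟨c, hc, n, hn, rfl⟩ := l.fr g hg hg'
  refine mul_mem (cent_le_norm _ (cent_anti ?_ hc))
    (norm_commutator (inf_le_left.trans (norm_Vof A D)) inf_le_right hn)
  exact (l.ess.commV_le h).trans l.ess.Z0_le

theorem Loc.uq_ex (l : Loc A D q) : ∃ v ∈ Vof A D, v ∉ Z0 A := by
  by_contra hc
  push Not at hc
  have := l.two
  rw [← l.idxV, relIndex_eq_one.2 hc] at this
  omega

theorem Ess.uq_Z1V (e : Ess A D) (h : Min2 A) : ⁅Vof A D, A⁆ ≤ Vof A D :=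
  (e.commV_le h).trans (Z0_le_Vof A D)

theorem Ess.uq_VV (e : Ess A D) : Vof A D ≤ 𝒞(Vof A D) := e.V_le.trans e.V_cent

theorem Loc.U_le_sup (l : Loc A D q) (h : Min2 A) {g : G} (hg : g ∈ 𝒩(D)) (hg' : g ∉ 𝒩(Z0 A)) :
    Uof A D ≤ ⁅Vof A D, A⁆ ⊔ cj g ⁅Vof A D, A⁆ := by
  refine iSup_le fun n => ?_
  by_cases hn : (n : G) ∈ 𝒩(Z0 A)
  · rw [cj_eq_of_mem_norm (l.uq_norm h n.2 hn)]; exact le_sup_left
  obtain ⟨a, ha, e⟩ := l.tr g hg hg' n n.2 hn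
  have h1 : (n : G)⁻¹ * (a * g) ∈ 𝒩(⁅Vof A D, A⁆) := l.uq_norm h
    (mul_mem (inv_mem n.2) (mul_mem (l.ess.norm h.toMin ha) hg))
    (by rw [mem_norm_iff_cj, cj_mul, cj_mul, e, cj_inv_cj])
  rw [mem_norm_iff_cj, cj_mul, cj_eq_iff, inv_inv, cj_mul] at h1
  rw [← h1]
  intro x hx
  obtain ⟨y, hy, rfl⟩ := mem_cj'.1 hx
  have hyV : y ∈ Vof A D := cj_le_of_mem_norm (l.ess.uq_Z1V h) (norm_Vof A D hg) hy
  rw [show a * y * a⁻¹ = ⁅y, a⁆⁻¹ * y by simp only [commutatorElement_def]; group]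
  exact mul_mem (mem_sup_left (inv_mem (commutator_mem_commutator hyV ha))) (mem_sup_right hy)

theorem Loc.V_dec (l : Loc A D q) (h : Min2 A) {v : G} (hv : v ∈ Vof A D) :
    ∃ u ∈ Uof A D, ∃ r ∈ Rof A D, v = u * r := by
  obtain ⟨k, hk, hk'⟩ := l.exists_mv
  have hkN := l.ess.K_le h.toMin hk
  obtain ⟨v₀, h0, h0'⟩ := l.uq_ex
  obtain ⟨z, hz, z', hz', rfl⟩ := l.prod k hkN hk' v hv
  obtain ⟨y, hy, rfl⟩ := mem_cj'.1 hz'
  obtain ⟨a, ha, r, hr, rfl⟩ := l.onto v₀ h0 h0' z hz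
  obtain ⟨a', ha', r', hr', rfl⟩ := l.onto v₀ h0 h0' y hy
  have m := conj_mem_of_norm (norm_Uof A D) hkN
    (comm_le_Uof A D (commutator_mem_commutator h0 ha'))
  refine ⟨_, mul_mem (comm_le_Uof A D (commutator_mem_commutator h0 ha)) m, _,
    mul_mem hr (conj_mem_of_norm (norm_Rof A D) hkN hr'), ?_⟩
  have c := Z0_comm (Rof_le A D hr) (l.ess.U_le_A h.toMin m)
  calc _ = ⁅v₀, a⁆ * (r * (k * ⁅v₀, a'⁆ * k⁻¹)) * (k * r' * k⁻¹) := by group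
    _ = _ := by rw [← c]; group

theorem Loc.U_inf (l : Loc A D q) (h : Min2 A) : Uof A D ⊓ Z0 A = ⁅Vof A D, A⁆ := by
  refine le_antisymm (fun x hx => ?_) (le_inf (comm_le_Uof A D) (l.ess.commV_le h))
  obtain ⟨k, hk, hk'⟩ := l.exists_mv
  have hkN := l.ess.K_le h.toMin hk
  obtain ⟨z, hz, y, hy, rfl⟩ := (mem_sup_of_norm_left (norm_of_cent
    ((cj_le_of_mem_norm (l.ess.uq_Z1V h) (norm_Vof A D hkN)).trans
      (l.ess.uq_VV.trans (cent_anti (l.ess.uq_Z1V h)))))).1 (l.U_le_sup h hkN hk' hx.1)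
  have hR : y ∈ Rof A D := l.inf k hkN hk' ▸ mem_inf.2
    ⟨(mul_mem_cancel_left (l.ess.commV_le h hz)).1 hx.2, cj_mono k (l.ess.commV_le h) hy⟩
  rw [mem_cj, mul_assoc, K_cent_Rof A D hk y hR, inv_mul_cancel_left] at hy
  exact mul_mem hz hy

theorem Loc.cenU (l : Loc A D q) (h : Min2 A) : A ⊓ 𝒞(Uof A D) = D := by
  refine le_antisymm (fun a ha => l.cenV ▸ mem_inf.2 ⟨ha.1, fun v hv => ?_⟩)
    (le_inf l.ess.le (l.ess.V_cent.trans (cent_anti (l.ess.U_le h.toMin))))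
  obtain ⟨u, hu, r, hr, rfl⟩ := l.V_dec h hv
  rw [mul_assoc, ← Z0_comm (Rof_le A D hr) ha.1, ← mul_assoc, ha.2 u hu, mul_assoc]

theorem Par.Z1 (p : Par A D D' q) (h : Min2 A) : ⁅Vof A D, A⁆ = ⁅Uof A D, Uof A D'⁆ := by
  refine le_antisymm (commutator_le.2 fun v hv a ha => ?_)
    (commutator_mono (p.l.ess.U_le h.toMin) (p.r.ess.U_le_A h.toMin))
  obtain ⟨v', hv', d, hd, rfl⟩ := p.sup a ha
  obtain ⟨u', hu', r', hr', rfl⟩ := p.r.V_dec h hv'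
  have hc : r' * d ∈ D := mul_mem (p.l.ess.Z0_le (Rof_le _ _ hr')) hd
  have hu'A := p.r.ess.U_le_A h.toMin hu'
  rw [mul_assoc, h.toMin.comm_mul_right (p.l.ess.V_le_A hv) hu'A (p.l.ess.le hc),
    commutatorElement_eq_one_iff_mul_comm.2 (p.l.ess.V_cent hc v hv), mul_one]
  obtain ⟨u, hu, r, hr, rfl⟩ := p.l.V_dec h hv
  rw [h.toMin.comm_mul_left (p.l.ess.U_le_A h.toMin hu) (Z0_le A (Rof_le _ _ hr)) hu'A,
    commutatorElement_eq_one_iff_mul_comm.2 (Z0_comm (Rof_le _ _ hr) hu'A).symm, mul_one]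
  exact commutator_mem_commutator hu hu'

theorem Par.sup_U (p : Par A D D' q) (h : Min2 A) {a : G} (ha : a ∈ A) :
    ∃ u ∈ Uof A D', ∃ d ∈ D, a = u * d := by
  obtain ⟨v', hv', d, hd, rfl⟩ := p.sup a ha
  obtain ⟨u', hu', r', hr', rfl⟩ := p.r.V_dec h hv'
  exact ⟨u', hu', _, mul_mem (p.l.ess.Z0_le (Rof_le _ _ hr')) hd, mul_assoc _ _ _⟩

theorem Par.mem_P (p : Par A D D' q) (h : Min2 A) {x : G} (hx : x ∈ Uof A D ⊔ Uof A D') :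
    ∃ u ∈ Uof A D, ∃ u' ∈ Uof A D', x = u * u' := 
  (mem_sup_of_norm_right ((p.l.ess.U_le_A h.toMin).trans
    ((p.r.ess.norm h.toMin).trans (norm_Uof A D')))).1 hx

theorem Par.P_inf (p : Par A D D' q) (h : Min2 A) : (Uof A D ⊔ Uof A D') ⊓ D = Uof A D := by
  have hU := (p.l.ess.U_le h.toMin).trans p.l.ess.V_le
  refine le_antisymm (fun x hx => ?_) (le_inf le_sup_left hU)
  obtain ⟨u, hu, u', hu', rfl⟩ := p.mem_P h hx.1
  have h1 : u' ∈ Z0 A := p.inf ▸ mem_inf.2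
    ⟨p.r.ess.U_le h.toMin hu', (mul_mem_cancel_left (hU hu)).1 hx.2⟩
  have h2 : u' ∈ ⁅Vof A D', A⁆ := p.r.U_inf h ▸ mem_inf.2 ⟨hu', h1⟩
  rw [p.symm.Z1 h, commutator_comm, ← p.Z1 h] at h2
  exact mul_mem hu (comm_le_Uof A D h2)

theorem Par.P_inf2 (p : Par A D D' q) (h : Min2 A) :
    (Uof A D ⊔ Uof A D') ⊓ (D ⊓ D') = ⁅Vof A D, A⁆ := by
  rw [← inf_assoc, p.P_inf h, ← p.l.U_inf h, ← p.inf', ← inf_assoc,
    inf_eq_left.2 (p.l.ess.U_le h.toMin)]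

theorem Par.cenP (p : Par A D D' q) (h : Min2 A) : A ⊓ 𝒞(Uof A D ⊔ Uof A D') = D ⊓ D' := by
  rw [cent_sup, inf_inf_distrib_left, p.l.cenU h, p.r.cenU h]

theorem Par.nc (p : Par A D D' q) (h : Min2 A) :
    ∃ u ∈ Uof A D, ∃ u' ∈ Uof A D', u * u' ≠ u' * u := by
  by_contra hc
  push Not at hc
  refine p.l.ess.lt.not_ge fun a ha => ?_
  obtain ⟨u, hu, d, hd, rfl⟩ := p.sup_U h ha
  exact mul_mem (p.l.cenU h ▸ mem_inf.2 ⟨p.r.ess.U_le_A h.toMin hu, fun x hx => hc x hx u hu⟩) hd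

end Cfsg.Agent.C2
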