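import Cfsg.Agent.C2.Ax
import Cfsg.Agent.C2.Par
import Cfsg.Agent.C2.Uq

set_option autoImplicit false
set_option linter.unusedVariables false
set_option linter.unusedSectionVars false

namespace Cfsg.Agent.C2

open Cfsg Cfsg.Agent.H49 Cfsg.Agent.GOLD Subgroup
open Cfsg.Agent.R2 (Two)
open scoped commutatorElement

universe u

variable {G : Type u} [Group G] [Finite G] {A D D' E E' : Subgroup G} {q q' : ℕ}

theorem Par.sep_ne (p : Par A D D' q) (h : Min2 A) (p' : Par A E E' q') (n : D ≠ E) (n' : D ≠ E') :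
    E ≠ D' ∧ E' ≠ D' :=
  ⟨fun e => n' (p'.uniq h (e ▸ p.symm)), fun e => n (p'.symm.uniq h (e ▸ p.symm))⟩

theorem Par.sep_le (p : Par A D D' q) (h : Min2 A) (p' : Par A E E' q') (n : D ≠ E) (n' : D ≠ E') :
    Vof A E ≤ D ∧ Vof A E' ≤ D ∧ Vof A D ≤ E ∧ Vof A D' ≤ E :=
  ⟨p.V_le h p'.l.ess (p.sep_ne h p' n n').1, p.V_le h p'.r.ess (p.sep_ne h p' n n').2,
    p'.V_le h p.l.ess n', p'.V_le h p.r.ess (p.sep_ne h p' n n').2.symm⟩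

theorem Par.sep_inf (p : Par A D D' q) (h : Min2 A) (p' : Par A E E' q') (n : D ≠ E)
    (n' : D ≠ E') : Vof A D ⊓ Vof A E = Z0 A := by
  refine le_antisymm (fun x hx => p.l.ess.V_inf ▸ mem_inf.2 ⟨hx.1, fun a ha => ?_⟩)
    (le_inf (Z0_le_Vof A D) (Z0_le_Vof A E))
  obtain ⟨v, hv, d, hd, rfl⟩ := p.sup a ha
  rw [mul_assoc, ← p.l.ess.V_cent hd x hx.1, ← mul_assoc,
    ← p'.l.ess.V_cent ((p.sep_le h p' n n').2.2.2 hv) x hx.2, mul_assoc]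

theorem Par.sep_Z0 (p : Par A D D' q) (h : Min2 A) (p' : Par A E E' q') (n : D ≠ E)
    (n' : D ≠ E') : Vof A D ⊔ Vof A E = Z0 (D ⊓ E) := by
  obtain ⟨l1, l2, l3, l4⟩ := p.sep_le h p' n n'
  have h1 : Vof A D ≤ Z0 (D ⊓ E) := fun x hx => ⟨⟨p.l.ess.V_le hx, l3 hx⟩,
    cent_symm (inf_le_left.trans p.l.ess.V_cent) hx, p.l.ess.V_sq hx⟩
  have h2 : Vof A E ≤ Z0 (D ⊓ E) := fun x hx => ⟨⟨l1 hx, p'.l.ess.V_le hx⟩,
    cent_symm (inf_le_right.trans p'.l.ess.V_cent) hx, p'.l.ess.V_sq hx⟩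
  refine le_antisymm (sup_le h1 h2) fun x hx => ?_
  obtain ⟨v, hv, c, hc, rfl⟩ := p.dec h hx.1.1
  have hc1 := (mul_mem_cancel_left (h1 hv)).1 hx
  obtain ⟨w, hw, c', hc', rfl⟩ := p'.dec h hc1.1.2
  have hc2 := (mul_mem_cancel_left (h2 hw)).1 hc1
  have hc3 : c' ∈ D' :=
    (mul_mem_cancel_left (p.symm.V_le h p'.l.ess n.symm hw)).1 hc.2
  refine mul_mem (mem_sup_left hv) (mem_sup_right (mul_mem hw (Z0_le_Vof A E
    ⟨p.r.ess.le hc3, fun a ha => ?_, hc2.2.2⟩)))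
  obtain ⟨v', hv', d, hd, rfl⟩ := p.sup a ha
  obtain ⟨w', hw', e, he, rfl⟩ := p'.sup d (p.l.ess.le hd)
  have c1 := p.r.ess.V_cent hc3 v' hv'
  have c2 := p'.r.ess.V_cent hc'.2 w' hw'
  have c3 := hc2.2.1 e ⟨(mul_mem_cancel_left (l2 hw')).1 hd, he⟩
  rw [mul_assoc, mul_assoc, c3, ← mul_assoc w', c2, ← mul_assoc, ← mul_assoc, c1]; group

theorem Ess.sep_K (e : Ess A D) (h : Min2 A) (hV : Vof A D ≤ E) :
    Kof A 𝒩(D) ≤ Kof A 𝒩(D ⊓ E) := by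
  rw [← (h.sc.mono (e.norm h.toMin) le_top).Kof_Kof]
  refine Kof_mono le_rfl (le_norm_iff.2 fun g hg x hx => ?_)
  rw [← inv_mul_cancel_right (g * x * g⁻¹) x]
  have := (e.K_le_CM h hg).2.2 x hx.1
  exact mul_mem ⟨e.V_le this, hV this⟩ hx

theorem Par.Z1_le (p : Par A E E' q) (h : Min2 A) (e : Ess A D) (n : D ≠ E) (n' : D ≠ E') :
    ⁅Vof A E, A⁆ ≤ Rof A D := by
  obtain ⟨D', q', p'⟩ := e.exists_par h
  obtain ⟨l1, l2, -⟩ := p'.sep_le h p n n'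
  rw [p.Z1 h]
  exact (commutator_mono ((p.l.ess.U_le h.toMin).trans l1)
    ((p.r.ess.U_le h.toMin).trans l2)).trans (e.der_le h)

theorem Par.axs (p : Par A D D' q) (h : Min2 A) (p' : Par A E E' q') (n : D ≠ E) (n' : D ≠ E') :
    Axs (Kof A 𝒩(D ⊓ E)) A (Vof A D ⊔ Vof A E) D E (Vof A D) (Vof A E) := by
  have hm := h.toMin
  have hA : A ≤ 𝒩(D ⊓ E) := norm_inf (p.l.ess.norm hm) (p'.l.ess.norm hm)
  have hZ := p.sep_Z0 h p' n n'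
  have hI := p.sep_inf h p' n n'
  have dec : ∀ x ∈ Vof A D ⊔ Vof A E, ∃ v ∈ Vof A D, ∃ w ∈ Vof A E, x = v * w := fun x hx =>
    (mem_sup_of_norm_right (p.l.ess.V_le_A.trans (p'.l.ess.normV hm))).1 hx
  refine ⟨h.sc.mono (le_Kof _ _) le_top, (h.sc.mono hA le_top).Kof_Kof, hZ ▸ ea_Z0 _,
    hZ ▸ (Kof_le_self hA).trans (norm_Z0 _), fun b hb => cent_anti
      (sup_le p.l.ess.V_le_A p'.l.ess.V_le_A) (h.sq b hb).2.1, p.l.ess.le, p'.l.ess.le,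
    by rw [cent_sup, inf_inf_distrib_left, p.l.cenV, p'.l.cenV], fun d hd hd' => ?_,
    fun d hd hd' => ?_, fun b hb h1 h2 => ?_, fun m => p.out' ?_, fun m => p'.out' ?_⟩
  · have hc : Vof A D ≤ 𝒞[d] := le_cent1_iff.2 (p.l.ess.V_cent hd)
    refine le_antisymm (fun x hx => ?_) (le_inf le_sup_left hc)
    obtain ⟨v, hv, w, hw, rfl⟩ := dec x hx.1
    exact mul_mem hv (Z0_le_Vof A D (p'.l.ti d (p.l.ess.le hd) hd'
      ⟨hw, (mul_mem_cancel_left (hc hv)).1 hx.2⟩))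
  · have hc : Vof A E ≤ 𝒞[d] := le_cent1_iff.2 (p'.l.ess.V_cent hd)
    refine le_antisymm (fun x hx => ?_) (le_inf le_sup_right hc)
    obtain ⟨v, hv, w, hw, rfl⟩ := dec x hx.1
    exact mul_mem (Z0_le_Vof A E (p.l.ti d (p'.l.ess.le hd) hd'
      ⟨hv, (mul_mem_cancel_right (hc hw)).1 hx.2⟩)) hw
  · rw [hI]
    refine le_antisymm (fun x hx => ?_) (le_inf ((Z0_le_Vof A D).trans le_sup_left)
      ((Z0_cent A).trans (cent_le_cent1 hb)))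
    obtain ⟨v, hv, w, hw, rfl⟩ := dec x hx.1
    have e1 := commutatorElement_eq_one_iff_mul_comm.2 (mem_cent1.1 hx.2)
    rw [hm.comm_mul_left (p.l.ess.V_le_A hv) (p'.l.ess.V_le_A hw) hb] at e1
    have e2 := p.l.nd b hb v hv (by
      rw [eq_inv_of_mul_eq_one_left e1]
      exact inv_mem (p'.Z1_le h p.l.ess n n' (commutator_mem_commutator hw hb)))
    rw [e2, one_mul] at e1
    exact mul_mem (p.l.ti b hb h1 ⟨hv, mem_cent1.2 (commutatorElement_eq_one_iff_mul_comm.1 e2)⟩)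
      (p'.l.ti b hb h2 ⟨hw, mem_cent1.2 (commutatorElement_eq_one_iff_mul_comm.1 e1)⟩)
  · exact ((le_inf le_rfl m).trans hI.le).trans p.r.ess.Z0_le
  · exact ((le_inf m le_rfl).trans hI.le).trans p'.r.ess.Z0_le

theorem Par.sep (p : Par A E E' q) (h : Min2 A) : ∃ k ∈ 𝒩(E), k ∉ 𝒩(Z0 A) ∧
    ∀ D, Ess A D → D ≠ E → D ≠ E' → k ∈ 𝒞(Uof A D) := by
  have hm := h.toMin
  obtain ⟨k₀, hk, hk'⟩ := p.l.exists_mv
  have kN := p.l.ess.K_le hm hk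
  obtain ⟨s, hs, hs'⟩ := SetLike.not_le_iff_exists.1 p.out
  have sA := p.r.ess.V_le_A hs
  have kK : k₀ * s * k₀⁻¹ ∈ Kof A 𝒩(E) := mul_mem (mul_mem hk (le_Kof _ _ sA)) (inv_mem hk)
  refine ⟨k₀ * s * k₀⁻¹, p.l.ess.K_le hm kK, p.l.mv k₀ kN hk' s sA hs', fun D e n n' => ?_⟩
  obtain ⟨D', q', p'⟩ := e.exists_par h
  obtain ⟨l1, l2, l3, l4⟩ := p'.sep_le h p n n'
  obtain ⟨g, hg, hg'⟩ := p'.l.exists_mv
  have gN := e.K_le hm hg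
  have x := p'.axs h p n n'
  have gH := e.sep_K h l3 hg
  have kH : Kof A 𝒩(E) ≤ Kof A 𝒩(D ⊓ E) := inf_comm E D ▸ p.l.ess.sep_K h l1
  have ab : Vof A D ⊔ Vof A E ≤ 𝒞(Vof A D ⊔ Vof A E) := abelian_iff.1 x.ea.1
  refine cent_anti (p'.l.U_le_sup h gN hg') ?_
  rw [cent_sup]
  refine mem_inf.2 ⟨cent_anti (p'.Z1_le h p.l.ess n.symm (p'.sep_ne h p n n').1)
    (K_cent_Rof A E kK), ?_⟩
  rw [p'.Z1 h, cj_commutator, ← le_cent1_iff, commutator_le]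
  intro v hv t ht
  replace hv : v ∈ Vof A D := cj_le_of_mem_norm (e.U_le hm) (norm_Vof A D gN) hv
  obtain ⟨u, hu, rfl⟩ := mem_cj'.1 ht
  have uE := l4 (p'.r.ess.U_le hm hu)
  have c := x.comm (l2 hs) uE (kH hk) gH
  have tD : g * u * g⁻¹ ∈ 𝒩(Vof A D) := norm_Vof A D
    (mul_mem (mul_mem gN (e.norm hm (p.l.ess.le uE))) (inv_mem gN))
  have tH : g * u * g⁻¹ ∈ 𝒩(Vof A D ⊔ Vof A E) := x.norm
    (mul_mem (mul_mem gH (le_Kof _ _ (p.l.ess.le uE))) (inv_mem gH))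
  have tc : g * u * g⁻¹ ∈ 𝒞(cj g (Vof A E)) := by
    rw [← cj_centralizer, conj_mem_cj]; exact p.l.ess.V_cent uE
  have kc : k₀ * s * k₀⁻¹ ∈ 𝒞(cj k₀ (Vof A D)) := by
    rw [← cj_centralizer, conj_mem_cj]; exact e.V_cent (l2 hs)
  have e1 : Vof A D ⊔ Vof A E = Vof A D ⊔ cj g (Vof A E) := by
    rw [← cj_eq_of_mem_norm (x.norm gH), cj_sup, cj_eq_of_mem_norm (norm_Vof A D gN)]
  have e2 : Vof A D ⊔ Vof A E = cj k₀ (Vof A D) ⊔ Vof A E := by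
    rw [← cj_eq_of_mem_norm (x.norm (kH hk)), cj_sup, cj_eq_of_mem_norm (norm_Vof A E kN)]
  have kV := x.norm (kH kK)
  have kE := norm_Vof A E (p.l.ess.K_le hm kK)
  have ek : ∀ w ∈ Vof A E, ⁅k₀ * s * k₀⁻¹, w⁆ ∈ Z0 A → ⁅k₀ * s * k₀⁻¹, w⁆ = 1 := fun w hw hz => by
    have hw' := conj_mem_of_norm' (norm_Vof A E) kN hw
    have e3 : ⁅k₀ * s * k₀⁻¹, w⁆ = k₀ * ⁅k₀⁻¹ * w * k₀, s⁆⁻¹ * k₀⁻¹ := by
      simp only [commutatorElement_def]; group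
    have m : ⁅k₀ * s * k₀⁻¹, w⁆ ∈ Rof A E := p.l.inf k₀ kN hk' ▸ mem_inf.2 ⟨hz, e3 ▸
      conj_mem_cj.2 (inv_mem (h.comm_mem (p.l.ess.V_le_A hw') sA))⟩
    have m' := inv_mem (conj_mem_of_norm' (norm_Rof A E) kN m)
    rw [e3, show (k₀⁻¹ * (k₀ * ⁅k₀⁻¹ * w * k₀, s⁆⁻¹ * k₀⁻¹) * k₀)⁻¹ = ⁅k₀⁻¹ * w * k₀, s⁆ by group]
      at m'
    rw [e3, p.l.nd s sA _ hw' m']; group
  generalize k₀ * s * k₀⁻¹ = k at *
  generalize g * u * g⁻¹ = t at *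
  have cV : ∀ y ∈ Vof A D, ⁅y, t⁆ ∈ Vof A D := fun y hy => by
    rw [commutatorElement_def, mul_assoc, mul_assoc, ← mul_assoc t]
    exact mul_mem hy (conj_mem_of_norm le_rfl tD (inv_mem hy))
  have m1 : k * ⁅v, t⁆ * k⁻¹ ∈ Vof A D := by
    have hy := conj_mem_of_norm le_rfl kV (mem_sup_left hv)
    have c1 := c _ (conj_mem_of_norm le_rfl tH (inv_mem hy))
    have e3 : k * ⁅v, t⁆ * k⁻¹ = ⁅k * v * k⁻¹, t⁆ := by
      calc _ = k * v * k⁻¹ * (⁅k, t⁆ * (t * (k * v * k⁻¹)⁻¹ * t⁻¹)) * ⁅k, t⁆⁻¹ := by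
            simp only [commutatorElement_def]; group
        _ = _ := by rw [← c1]; simp only [commutatorElement_def]; group
    rw [e3]
    obtain ⟨y, hy1, w, hw, e4⟩ := (mem_sup_of_norm_left (norm_of_cent (le_sup_right.trans
      (e1.ge.trans (ab.trans (cent_anti le_sup_left)))))).1 (e1.le hy)
    have c2 := tc w hw
    rw [e4, show ⁅y * w, t⁆ = y * (w * t) * w⁻¹ * y⁻¹ * t⁻¹ by
      simp only [commutatorElement_def]; group, c2,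
      show y * (t * w) * w⁻¹ * y⁻¹ * t⁻¹ = ⁅y, t⁆ by simp only [commutatorElement_def]; group]
    exact cV y hy1
  obtain ⟨y, hy, w, hw, e4⟩ := (mem_sup_of_norm_right (norm_of_cent (le_sup_left.trans
    (e2.ge.trans (ab.trans (cent_anti le_sup_right)))))).1 (e2.le (mem_sup_left (cV v hv)))
  have m2 : ⁅k, w⁆ ∈ Vof A E := mul_mem (conj_mem_of_norm le_rfl kE hw) (inv_mem hw)
  have e5 : k * ⁅v, t⁆ * k⁻¹ * ⁅v, t⁆⁻¹ = ⁅k, w⁆ := by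
    have c2 := ab (e2.ge (mem_sup_left hy)) _ (mem_sup_right m2)
    rw [e4, ← mul_assoc, ← kc y hy]
    calc _ = y * ⁅k, w⁆ * y⁻¹ := by simp only [commutatorElement_def]; group
      _ = _ := by rw [← c2]; group
  have e6 := ek w hw (p'.sep_inf h p n n' ▸ mem_inf.2
    ⟨e5 ▸ mul_mem m1 (inv_mem (cV v hv)), m2⟩)
  rw [← e5, mul_inv_eq_one, mul_inv_eq_iff_eq_mul] at e6
  exact mem_cent1.2 e6.symm

end Cfsg.Agent.C2
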