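import Cfsg.Agent.C2.Se

set_option autoImplicit false
set_option linter.unusedVariables false
set_option linter.unusedSectionVars false

namespace Cfsg.Agent.C2

open Cfsg Cfsg.Agent.H49 Cfsg.Agent.GOLD Subgroup
open Cfsg.Agent.R2 (Two)
open scoped commutatorElement

universe u

variable {G : Type u} [Group G] [Finite G] {A D : Subgroup G}

theorem star_idx {X Y X₀ Y₀ : Subgroup G} (f : G → G) (h1 : ∀ x ∈ X, f x ∈ Y)
    (h2 : ∀ x ∈ X, ∀ y ∈ X, (f x)⁻¹ * f y ∈ Y₀ → x⁻¹ * y ∈ X₀) :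
    X₀.relIndex X ≤ Y₀.relIndex Y := by
  refine Nat.card_le_card_of_injective (fun c : X ⧸ X₀.subgroupOf X =>
    ((⟨f c.out, h1 _ c.out.2⟩ : Y) : Y ⧸ Y₀.subgroupOf Y)) fun c d e => ?_
  rw [← QuotientGroup.out_eq' c, ← QuotientGroup.out_eq' d]
  exact QuotientGroup.eq.2 (h2 _ c.out.2 _ d.out.2
    ((QuotientGroup.eq (s := Y₀.subgroupOf Y)).1 e))

theorem star_eq {X Y W : Subgroup G} (h1 : X ≤ Y) (h2 : Y ≤ W)
    (h : X.relIndex W ≤ Y.relIndex W) : X = Y := by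
  refine eq_of_le_of_card_eq h1 (le_antisymm (card_le_of_le h1) ?_)
  have e1 := card_mul_relIndex (h1.trans h2)
  have e2 := card_mul_relIndex h2
  refine Nat.le_of_mul_le_mul_right ?_ (relIndex_pos Y W)
  rw [e2, ← e1]
  exact Nat.mul_le_mul_left _ h

theorem Ess.star_m (e : Ess A D) (h : Min2 A) {g a b : G} (hg : g ∈ 𝒩(D)) (hg' : g ∉ Mx A D)
    (ha : a ∈ A) (ha' : a ∉ D) (hb : b ∈ A) (hb' : b ∉ D) :
    𝒞[g * b * g⁻¹].relIndex (Z0 A) ≤ 𝒞[a].relIndex (cj g (Z0 A)) := by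
  have gV := norm_Vof A D hg
  have VV : Vof A D ≤ 𝒞(Vof A D) := e.V_le.trans e.V_cent
  have hZ := Z0_le_Vof A D
  obtain ⟨n, ⟨k, rfl⟩, hn⟩ := e.odd h hg hg' ha ha' hb hb'
  have t2 : g * b * g⁻¹ * (g * b * g⁻¹) ∈ 𝒞(Vof A D) := by
    rw [show g * b * g⁻¹ * (g * b * g⁻¹) = g * (b * b) * g⁻¹ by group]
    exact VV (conj_mem_of_norm le_rfl gV (hZ (h.sq b hb)))
  have tV : g * b * g⁻¹ ∈ 𝒩(Vof A D) := mul_mem (mul_mem gV (e.normV h.toMin hb)) (inv_mem gV)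
  have tm : ∀ z ∈ Z0 A, ⁅z, g * b * g⁻¹⁆ ∈ cj g (Z0 A) := fun z hz => by
    rw [show ⁅z, g * b * g⁻¹⁆ = g * ⁅g⁻¹ * z * g, b⁆ * g⁻¹ by
      simp only [commutatorElement_def]; group, conj_mem_cj]
    exact e.commV_le h (commutator_mem_commutator (conj_mem_of_norm' le_rfl gV (hZ hz)) hb)
  generalize g * b * g⁻¹ = t at *
  refine star_idx (fun z => ⁅z, t⁆) tm fun x hx y hy hc => ?_
  have hw : x⁻¹ * y ∈ Z0 A := mul_mem (inv_mem hx) hy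
  have e1 : ⁅x, t⁆⁻¹ * ⁅y, t⁆ = x⁻¹ * y * (t * (x⁻¹ * y)⁻¹ * t⁻¹) := by
    have c := VV (conj_mem_of_norm le_rfl tV (hZ hx)) _
      (mul_mem (hZ hw) (conj_mem_of_norm le_rfl tV (hZ (inv_mem hy))))
    calc _ = t * x * t⁻¹ * (x⁻¹ * y * (t * y⁻¹ * t⁻¹)) := by simp only [commutatorElement_def]; group
      _ = _ := by rw [← c]; group
  rw [e1] at hc
  generalize x⁻¹ * y = w at *
  have aw : a ∈ 𝒞[w] := mem_cent1.2 (Z0_comm hw ha)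
  have h1 : t⁻¹ * a * t ∈ 𝒞[w] := by
    have h2 := inv_mem ((mul_mem_cancel_left (mem_cent1_comm.1 aw)).1 hc)
    rw [mem_cent1] at h2 ⊢
    calc _ = t⁻¹ * (a * (t * w⁻¹ * t⁻¹)⁻¹) * t := by group
      _ = _ := by rw [← h2]; group
  have Vw : 𝒞(Vof A D) ≤ 𝒞[w] := cent_le_cent1 (hZ hw)
  have h2 : (a * t) ^ 2 ∈ 𝒞[w] := by
    rw [show (a * t) ^ 2 = a * (t * t) * (t⁻¹ * a * t) by rw [pow_two]; group]
    exact mul_mem (mul_mem aw (Vw t2)) h1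
  have h3 := Vw hn
  rw [pow_succ, pow_mul, mul_mem_cancel_left (pow_mem h2 k), mul_mem_cancel_left aw] at h3
  exact mem_cent1_comm.1 h3

theorem Ess.star (e : Ess A D) (h : Min2 A) {a : G} (ha : a ∈ A) (ha' : a ∉ D) :
    D.relIndex A ≤ 𝒞[a].relIndex (Vof A D) := by
  obtain ⟨g, hg, hg'⟩ := SetLike.not_le_iff_exists.1 e.out
  have hm := h.toMin
  have AH : A ≤ 𝒩(D) ⊓ 𝒞(Z0 A ⊓ 𝒞[g * a * g⁻¹]) :=
    le_inf (e.norm hm) ((cent_Z0 A).trans (cent_anti inf_le_left))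
  have tH : zpowers (g * a * g⁻¹) ≤ 𝒩(D) ⊓ 𝒞(Z0 A ⊓ 𝒞[g * a * g⁻¹]) := zpowers_le.2
    (mem_inf.2 ⟨mul_mem (mul_mem hg (e.norm hm ha)) (inv_mem hg), fun x hx => mem_cent1.1 hx.2⟩)
  obtain ⟨T, hT, hAT⟩ := exists_sylowOf_ge (isPi_of_isPGroup Nat.prime_two hm.pg) AH
  obtain ⟨k, hk, hkT⟩ := sylowOf_subJ hT tH (isPi_of_isPGroup Nat.prime_two (by
    rw [← cj_zpowers, isPGroup_cj]; exact hm.pg.to_le (zpowers_le.2 ha)))
  have hb : k * g * a * (k * g)⁻¹ ∈ A := hm.sc.2.2 T hAT le_top (hT.pi.isPGroup Nat.prime_two) a ha _ (mem_top _) (by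
    rw [show k * g * a * (k * g)⁻¹ = k * (g * a * g⁻¹) * k⁻¹ by group]
    exact hkT (conj_mem_cj.2 (mem_zpowers _)))
  have hb' : k * g * a * (k * g)⁻¹ ∉ D := fun m => ha' (by
    have := conj_mem_of_norm' le_rfl (mul_mem hk.1 hg) m
    rwa [show (k * g)⁻¹ * (k * g * a * (k * g)⁻¹) * (k * g) = a by group] at this)
  have et : k⁻¹ * (k * g * a * (k * g)⁻¹) * k⁻¹⁻¹ = g * a * g⁻¹ := by group
  have kN : k⁻¹ ∈ 𝒩(D) := inv_mem (mem_inf.1 hk).1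
  have kM : k⁻¹ ∉ Mx A D := fun m => hg' (e.se h hg ha ha'
    (et ▸ mul_mem (mul_mem m (e.A_le_Mx hm hb)) (inv_mem m)))
  have key : ∀ c ∈ A, c ∉ D → (cj k⁻¹ (Z0 A)).relIndex (Z0 A) ≤ 𝒞[c].relIndex (cj k⁻¹ (Z0 A)) := by
    intro c hc hc'
    refine le_trans ?_ (e.star_m h kN kM hc hc' hb hb')
    rw [et, ← inf_relIndex_right 𝒞[g * a * g⁻¹]]
    refine relIndex_le_of_le_left (fun x hx => ?_) (relIndex_pos _ _).ne'
    rw [mem_cj, inv_inv, ← hk.2 x ⟨hx.2, hx.1⟩, mul_inv_cancel_right]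
    exact hx.2
  have sym : (Z0 A).relIndex (cj k⁻¹ (Z0 A)) = (cj k⁻¹ (Z0 A)).relIndex (Z0 A) := by
    have e1 := card_inf_mul_relIndex (Z0 A) (cj k⁻¹ (Z0 A))
    have e2 := card_inf_mul_relIndex (cj k⁻¹ (Z0 A)) (Z0 A)
    rw [card_cj, inf_comm, ← e2] at e1
    exact Nat.eq_of_mul_eq_mul_left (card_pos' _) e1
  obtain ⟨v, hv, hv'⟩ : ∃ v ∈ cj k⁻¹ (Z0 A), v ∉ Z0 A := SetLike.not_le_iff_exists.1 fun m => by
    obtain ⟨c, hc, n, hn, e1⟩ := e.fr h kN (mem_norm_of_cj_le m)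
    exact kM (e1 ▸ mul_mem (cent_le_Mx A D hc) (e.normA_le hn))
  have vA := e.V_le_A (cj_le_Vof kN hv)
  refine le_trans (le_trans (star_idx (fun x => ⁅v, x⁆) (fun x hx => h.comm_mem vA hx)
    fun x hx y hy hc => ?_) (key a ha ha'))
    (relIndex_le_of_le_right (cj_le_Vof kN) (relIndex_pos _ _).ne')
  have hw : x⁻¹ * y ∈ A := mul_mem (inv_mem hx) hy
  have e1 : ⁅v, x⁆⁻¹ * ⁅v, y⁆ = ⁅v, x⁻¹ * y⁆ := by
    rw [inv_mul_eq_iff_eq_mul, ← hm.comm_mul_right vA hx hw, mul_inv_cancel_left]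
  rw [e1] at hc
  generalize x⁻¹ * y = w at *
  by_contra hw'
  rw [commutatorElement_def, mul_assoc, mul_assoc, mul_mem_cancel_left hv, ← mul_assoc] at hc
  have h1 := e.fix_of_mem h kN kM hw (inv_mem hv) hc
  have h2 : Z0 A ⊓ cj k⁻¹ (Z0 A) = 𝒞[w] ⊓ cj k⁻¹ (Z0 A) := star_eq
    (inf_le_inf_right _ ((Z0_cent A).trans (cent_le_cent1 hw))) inf_le_right
    (by rw [inf_relIndex_right, inf_relIndex_right, sym]; exact key w hw hw')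
  rw [mul_inv_eq_iff_eq_mul] at h1
  exact hv' (h2.ge (mem_inf.2 ⟨inv_mem_iff.1 (mem_cent1.2 h1.symm), hv⟩)).1

end Cfsg.Agent.C2
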