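import Cfsg.Agent.C2.Alp

/-! notes/C2.md, section Tr. -/

set_option autoImplicit false
set_option linter.unusedSectionVars false

namespace Cfsg.Agent.C2

open Cfsg Cfsg.Agent.H49 Cfsg.Agent.GOLD Subgroup
open Cfsg.Agent.H82G (pi2 sc_mem sc_norm syl_pg exists_syl_ge)
open scoped commutatorElement

universe u

variable {G : Type u} [Group G] [Finite G] {H A S Y : Subgroup G}

/-- conjugation by `g` on `X` is induced by `N(A)` modulo `A` -/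
def TrCt (H A X : Subgroup G) (g : G) : Prop :=
  ∃ n ∈ H ⊓ 𝒩(A), ∀ x ∈ X, g * x * g⁻¹ * (n * x * n⁻¹)⁻¹ ∈ A

theorem TrCt.res {X X' : Subgroup G} {g : G} (h : TrCt H A X g) (hle : X' ≤ X) : TrCt H A X' g :=
  let ⟨n, hn, h1⟩ := h
  ⟨n, hn, fun x hx => h1 x (hle hx)⟩

theorem TrCt.mul {X : Subgroup G} {g g' : G} (h : TrCt H A X g) (h' : TrCt H A (cj g X) g') :
    TrCt H A X (g' * g) := by
  obtain ⟨n, hn, h1⟩ := h
  obtain ⟨m, hm, h2⟩ := h'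
  refine ⟨m * n, mul_mem hm hn, fun x hx => ?_⟩
  have := mul_mem (h2 _ (conj_mem_cj.2 hx)) (conj_mem_of_norm le_rfl hm.2 (h1 x hx))
  rwa [show g' * (g * x * g⁻¹) * g'⁻¹ * (m * (g * x * g⁻¹) * m⁻¹)⁻¹ *
    (m * (g * x * g⁻¹ * (n * x * n⁻¹)⁻¹) * m⁻¹) =
    g' * g * x * (g' * g)⁻¹ * (m * n * x * (m * n)⁻¹)⁻¹ by group] at this

theorem tr_ctrl (h : SC H A) (hS : IsSylowOf 2 S H) (hA : A ≤ S) :
    ∀ X g, X ≤ S → g ∈ H → cj g X ≤ S → TrCt H A X g := by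
  refine alp_down fun X ih g hX hg hgX => ?_
  have h2 := syl_pg hS
  have hSA := sc_norm h hA hS.le h2
  by_cases hAX : A ≤ X
  · exact ⟨g, ⟨hg, mem_norm_of_cj_le (alp_cj h hA hS.le h2 le_rfl hg ((cj_mono g hAX).trans hgX))⟩,
      fun x _ => by rw [mul_inv_cancel]; exact one_mem _⟩
  have nle : ∀ x ∈ H, ¬ A ≤ cj x X := fun x hx e => by
    rw [le_cj_iff] at e
    rw [cj_eq_of_mem_norm (mem_norm_of_cj_le
      (alp_cj h hA hS.le h2 le_rfl (inv_mem hx) (e.trans hX)))] at e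
    exact hAX e
  obtain ⟨T, hT, hXT⟩ := exists_syl_ge (h2.to_le hX) (le_inf (hX.trans hS.le) (le_normalizer (H := X)))
  obtain ⟨k, hkH, hk⟩ := sylowOf_subJ hS (hT.le.trans inf_le_left) hT.pi
  have hT0 := hT.cj k
  rw [cj_inf, cj_normalizer, cj_eq_of_mem hkH] at hT0
  have hD : cj k X ≤ S := (cj_mono k hXT).trans hk
  have key : ∀ x ∈ H, cj x X ≤ S → ∃ y ∈ H, cj y (cj x X) = cj k X ∧ TrCt H A (cj x X) y ∧
      TrCt H A (cj k X) y⁻¹ := fun x hxH hx => by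
    have h1 := lt_inf_norm_of_nilpotent (pi2 h2).nilpotent
      (lt_of_le_of_ne hx fun e => nle x hxH (hA.trans e.ge))
    have h3 : cj (k * x⁻¹) (cj x X) = cj k X := by rw [cj_cj, inv_mul_cancel_right]
    have hkx := mul_mem hkH (inv_mem hxH)
    obtain ⟨n, hn, h4⟩ := sylowOf_subJ (X := cj (k * x⁻¹) (S ⊓ 𝒩(cj x X))) hT0
      (le_inf (cj_le_of_mem (inf_le_left.trans hS.le) hkx)
        (by rw [← h3, ← cj_normalizer (k * x⁻¹)]; exact cj_mono _ inf_le_right))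
      (pi2 (isPGroup_cj.2 (h2.to_le inf_le_left)))
    rw [cj_cj] at h4
    have h5 : cj (n * (k * x⁻¹)) (cj x X) = cj k X := by rw [cj_mul, h3, cj_eq_of_mem_norm hn.2]
    have h6 := card_lt_of_lt h1
    rw [card_cj] at h6
    have hy := mul_mem hn.1 hkx
    refine ⟨_, hy, h5, (ih _ h6 _ inf_le_left hy (h4.trans hk)).res h1.le, (ih _ (by rwa [card_cj]) _
      (h4.trans hk) (inv_mem hy) (by rw [cj_inv_cj]; exact inf_le_left)).res ?_⟩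
    rw [← h5]
    exact cj_mono _ h1.le
  have star : ∀ n ∈ H ⊓ 𝒩(cj k X), TrCt H A (cj k X) n := by
    have hc := card_cj k X
    have hn := nle k hkH
    generalize cj k X = D at hT0 hD hc hn
    have h1 : ¬ A ⊓ (H ⊓ 𝒩(D)) ≤ D := fun e => by
      obtain ⟨y, hy, yn⟩ := SetLike.exists_of_lt (lt_inf_norm_of_nilpotent
        (pi2 (h2.to_le (sup_le hA hD))).nilpotent (right_lt_sup.2 hn))
      obtain ⟨a, ha, d, hd, rfl⟩ := (mem_sup_of_norm_left (hD.trans hSA)).1 hy.1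
      exact yn (mul_mem (e ⟨ha, h.1 ha, (mul_mem_cancel_right (le_normalizer hd)).1 hy.2⟩) hd)
    have h3 : H ⊓ 𝒩(D) ≤ 𝒩(D ⊓ A) := le_norm_iff.2 fun m hm x hx =>
      ⟨conj_mem_of_norm le_rfl hm.2 hx.1,
        sc_mem h hA hS.le h2 hx.2 hm.1 (hD (conj_mem_of_norm le_rfl hm.2 hx.1))⟩
    intro n hn
    obtain ⟨κ, hκ, m, hm, rfl⟩ := (h.inf inf_le_left hT0 (h2.to_le (sup_le hA hk))).frattini
      (N := H ⊓ CM D (D ⊓ A)) (fun a ha => ⟨ha.2.1, ha.2.2, h3 ha.2, fun d hd =>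
        mem_inf.2 ⟨mul_mem (conj_mem_of_norm le_rfl ha.2.2 hd) (inv_mem hd), by
          rw [show a * d * a⁻¹ * d⁻¹ = a * (d * a⁻¹ * d⁻¹) by group]
          exact A.mul_mem ha.1 (conj_mem_of_norm hSA (hD hd) (A.inv_mem ha.1))⟩⟩)
      (fun a ha => ⟨ha.1, ha.2.1⟩) (norm_inf (norm_of_le inf_le_left) (norm_CM inf_le_right h3)) n hn
    have h4 : D ⊔ A ⊓ (H ⊓ 𝒩(D)) ≤ S := sup_le hD (inf_le_left.trans hA)
    refine ((ih _ (hc ▸ card_lt_of_lt (left_lt_sup.2 h1)) m h4 hm.1.1 ?_).res le_sup_left).mul ?_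
    · rwa [cj_sup, cj_eq_of_mem_norm hm.1.2, cj_eq_of_mem_norm hm.2]
    · rw [cj_eq_of_mem_norm hm.1.2]
      exact ⟨1, one_mem _, fun x hx => by simpa using (hκ.2.2.2 x hx).2⟩
  obtain ⟨y, hy, e1, r1, -⟩ := key 1 (one_mem _) (by rwa [cj_one])
  obtain ⟨z, hz, e2, -, r2⟩ := key g hg hgX
  rw [cj_one] at e1 r1
  have e3 : cj (z * g * y⁻¹) (cj k X) = cj k X := by
    rw [cj_mul, ← e1, cj_inv_cj, cj_mul, e2, e1]
  have r3 := r1.mul (e1 ▸ star _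
    (mem_inf.2 ⟨mul_mem (mul_mem hz hg) (inv_mem hy), mem_norm_iff_cj.2 e3⟩))
  have e4 : cj (z * g * y⁻¹ * y) X = cj k X := by rw [cj_mul, e1, e3]
  have r4 := r3.mul (e4 ▸ r2)
  rwa [inv_mul_cancel_right, inv_mul_cancel_left] at r4

/-- Fusion modulo `A` is controlled by `N(A)`. -/
theorem ctrl (h : SC H A) (hS : IsSylowOf 2 S H) (hA : A ≤ S) {s g : G} (hs : s ∈ S) (hg : g ∈ H)
    (hgs : g * s * g⁻¹ ∈ S) : ∃ n ∈ H ⊓ 𝒩(A), ∃ a ∈ A, g * s * g⁻¹ = a * (n * s * n⁻¹) := by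
  obtain ⟨n, hn, h1⟩ := tr_ctrl h hS hA (zpowers s) g (zpowers_le.2 hs) hg
    (by rwa [cj_zpowers, zpowers_le])
  exact ⟨n, hn, _, h1 s (mem_zpowers s), (inv_mul_cancel_right _ _).symm⟩

theorem tr1 (h : SC H A) (hS : IsSylowOf 2 S H) (hA : A ≤ S) (hY : A ≤ Y)
    (hc : ∀ s ∈ S, ∀ n ∈ H ⊓ 𝒩(A), n * s * n⁻¹ ∈ S → n * s * n⁻¹ * s⁻¹ ∈ Y) :
    S ⊓ ⁅H, H⁆ ≤ Y := by
  have h1 : ∀ s ∈ S, ∀ g ∈ H, g * s * g⁻¹ ∈ S → g * s * g⁻¹ * s⁻¹ ∈ Y := fun s hs g hg hgs => by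
    obtain ⟨n, hn, a, ha, e⟩ := ctrl h hS hA hs hg hgs
    rw [e, mul_assoc]
    exact mul_mem (hY ha) (hc s hs n hn ((mul_mem_cancel_left (hA ha)).1 (e ▸ hgs)))
  haveI : Fact (Nat.Prime 2) := ⟨Nat.prime_two⟩
  obtain ⟨P, rfl⟩ := exists_sylow_of Nat.prime_two hS
  rw [← map_subtype_commutator, ← map_inf _ _ _ H.subtype_injective, inf_comm,
    commutator_inf_eq_focalSubgroup, map_le_iff_le_comap, focalSubgroup_def, closure_le]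
  rintro _ ⟨h2, x, hx, u, rfl⟩
  have h3 : u * x * u⁻¹ ∈ (P : Subgroup H) := by
    have := mul_mem (inv_mem h2) hx
    simpa [commutatorElement_def, mul_assoc] using this
  have h4 := inv_mem (h1 x (mem_map_of_mem _ hx) u u.2 (mem_map_of_mem H.subtype h3))
  simpa [commutatorElement_def, mul_assoc, mem_subgroupOf] using h4

theorem tr2 (h : SC H A) (hK : Kof A H = H) (hS : IsSylowOf 2 S H) (hA : A ≤ S) (hY : A ≤ Y)
    (hc : ∀ s ∈ S, ∀ n ∈ H ⊓ 𝒩(A), n * s * n⁻¹ ∈ S → n * s * n⁻¹ * s⁻¹ ∈ Y) : S ≤ Y := fun s hs => by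
  have h1 : H ≤ A ⊔ ⁅H, H⁆ := hK.ge.trans
    (Kof_le le_sup_left (norm_of_der_le le_sup_right (sup_le h.1 der_le)))
  obtain ⟨a, ha, x, hx, rfl⟩ := (mem_sup_of_norm_right (h.1.trans norm_der)).1 (h1 (hS.le hs))
  exact mul_mem (hY ha) (tr1 h hS hA hY hc ⟨(mul_mem_cancel_left (hA ha)).1 hs, hx⟩)

theorem tr3 (h : SC H A) (hK : Kof A H = H) (hS : IsSylowOf 2 S H) (hA : A ≤ S) :
    S ≤ A ⊔ ⁅H ⊓ 𝒩(A), H ⊓ 𝒩(A)⁆ :=
  tr2 h hK hS hA le_sup_left fun _ hs _ hn _ => mem_sup_right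
    (commutator_mem_commutator hn ⟨hS.le hs, sc_norm h hA hS.le (syl_pg hS) hs⟩)

/-- No subgroup of index two. -/
theorem ns (h : SC H A) (hK : Kof A H = H) (hY : A ≤ Y)
    (h2 : ∀ n ∈ H ⊓ 𝒩(A), ∀ n' ∈ H ⊓ 𝒩(A), n ∉ Y → n' ∉ Y → n * n' ∈ Y) :
    H ⊓ 𝒩(A) ≤ Y := fun n hn => by_contra fun hn' => by
  obtain ⟨S, hS, hA⟩ := exists_syl_ge h.2.1 h.1
  have h3 : Y.relIndex (H ⊓ 𝒩(A)) = 2 := relIndex_eq_two_iff_exists_notMem_and.2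
    ⟨n, hn, hn', fun b hb => (em (b ∈ Y)).symm.imp_left fun c => h2 b hb n hn c hn'⟩
  have h4 : S ≤ Y := (tr3 h hK hS hA).trans (sup_le hY (commutator_le.2 fun a ha b hb => by
    have : (⟨a, ha⟩ * ⟨b, hb⟩ * (⟨a, ha⟩ : ↥(H ⊓ 𝒩(A)))⁻¹ * (⟨b, hb⟩ : ↥(H ⊓ 𝒩(A)))⁻¹) ∈
        Y.subgroupOf (H ⊓ 𝒩(A)) := by
      simp only [mul_mem_iff_of_index_two h3, inv_mem_iff]
      tauto
    exact this))
  have h5 := (hS.sub (le_inf hS.le (sc_norm h hA hS.le (syl_pg hS))) inf_le_left).index_of_le h4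
  rw [h3] at h5
  exact h5 2 Nat.prime_two dvd_rfl rfl

end Cfsg.Agent.C2
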